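import Cfsg.Agent.M23Nse.NormE.Pair
import Mathlib.GroupTheory.Perm.Cycle.Type

/-!
# Elements of order seven and five on the blocks

An element of order seven fixes one block, an element of order five fixes three.
-/

set_option autoImplicit false
set_option linter.style.haveILetI false
set_option linter.unusedSectionVars false

namespace CfsgLib.M23Nse

open Subgroup MulAction
open scoped Pointwise

universe u

variable {G : Type u} [Group G] [Finite G]

/-- The fixed points of an element of prime order on a finite set, modulo that prime. -/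
theorem fixed_mod {q : ℕ} [Fact q.Prime] {Ω : Type*} [Finite Ω] (σ : Equiv.Perm Ω) (hσ : σ ^ q = 1) :
    Nat.card {c : Ω // σ c = c} % q = Nat.card Ω % q := by
  classical
  haveI := Fintype.ofFinite Ω
  have h := Equiv.Perm.card_compl_support_modEq (σ := σ) (p := q) (n := 1) (by rw [pow_one, hσ])
  rw [← Nat.card_eq_fintype_card] at h
  rw [← h, Nat.card_eq_fintype_card, Fintype.card_subtype]
  congr 2
  ext c
  simp

/-- The centralizer in a normalized subgroup, modulo the prime. -/
theorem cent_mod {q : ℕ} [Fact q.Prime] {x : G} (hx : x ^ q = 1) (H : Subgroup G)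
    (hH : ∀ y ∈ H, x * y * x⁻¹ ∈ H) :
    Nat.card (H ⊓ centralizer ({x} : Set G) : Subgroup G) % q = Nat.card H % q := by
  have hpow : ∀ (n : ℕ), ∀ y ∈ H, x ^ n * y * (x ^ n)⁻¹ ∈ H := by
    intro n
    induction n with
    | zero => intro y hy; simpa using hy
    | succ n ih =>
      intro y hy
      rw [pow_succ, show x ^ n * x * y * (x ^ n * x)⁻¹ = x ^ n * (x * y * x⁻¹) * (x ^ n)⁻¹ by group]
      exact ih _ (hH y hy)
  let σ : Equiv.Perm H :=
    { toFun := fun y => ⟨x * y * x⁻¹, hH y y.2⟩
      invFun := fun y => ⟨x⁻¹ * y * x, by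
        have h := hpow (q - 1) y y.2
        have hq : x ^ (q - 1) = x⁻¹ := by
          refine eq_inv_of_mul_eq_one_left ?_
          rw [← pow_succ, Nat.sub_add_cancel (Fact.out : q.Prime).one_le, hx]
        rwa [hq, inv_inv] at h⟩
      left_inv := fun y => Subtype.ext (by simp [mul_assoc])
      right_inv := fun y => Subtype.ext (by simp [mul_assoc]) }
  have hσn : ∀ (n : ℕ) (y : H), ((σ ^ n) y : G) = x ^ n * y * (x ^ n)⁻¹ := by
    intro n
    induction n with
    | zero => intro y; simp
    | succ n ih =>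
      intro y
      rw [pow_succ, Equiv.Perm.mul_apply, ih, pow_succ]
      show x ^ n * (x * y * x⁻¹) * (x ^ n)⁻¹ = _
      group
  have hfix := fixed_mod (q := q) σ (Equiv.ext fun y => Subtype.ext (by rw [hσn, hx]; simp))
  rw [← hfix]
  congr 1
  refine Nat.card_congr
    { toFun := fun y => ⟨⟨y.1, y.2.1⟩, Subtype.ext ?_⟩
      invFun := fun y => ⟨y.1, y.1.2, mem_centralizer_singleton_iff.2 ?_⟩
      left_inv := fun y => rfl
      right_inv := fun y => rfl }
  · show x * y.1 * x⁻¹ = y.1
    rw [mul_inv_eq_iff_eq_mul]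
    exact (mem_centralizer_singleton_iff.1 y.2.2).symm
  · have h : x * (y.1 : G) * x⁻¹ = y.1 := congrArg Subtype.val y.2
    exact (mul_inv_eq_iff_eq_mul.1 h).symm

namespace Kern

variable {K : Kern G} {S T : K.Bk}

/-- A 7-element centralizes a single involution. -/
theorem seven_invol (K : Kern G) {x : G} (hx : orderOf x = 7) :
    ∃ z : G, orderOf z = 2 ∧ Commute z x ∧ ∀ z' : G, orderOf z' = 2 → Commute z' x → z' = z := by
  haveI : Fact (Nat.Prime 2) := ⟨Nat.prime_two⟩
  set C := centralizer ({x} : Set G)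
  have hC : Nat.card C = 14 := K.loc.seven x hx
  obtain ⟨⟨z, hzC⟩, hz'⟩ := exists_prime_orderOf_dvd_card' (G := C) 2 (by rw [hC]; norm_num)
  have hz : orderOf z = 2 := by rw [← hz', Subgroup.orderOf_mk]
  have hzx : Commute z x := mem_centralizer_singleton_iff.1 hzC
  refine ⟨z, hz, hzx, fun w hw hwx => ?_⟩
  have ho : orderOf (z * x) = 14 := by
    rw [hzx.orderOf_mul_eq_mul_orderOf_of_coprime (by rw [hz, hx]; norm_num), hz, hx]
  have hcy : zpowers (z * x) = C := eq_of_le_of_card_ge
    (zpowers_le.2 (mul_mem hzC (mem_centralizer_singleton_iff.2 rfl)))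
    (by rw [hC, Nat.card_zpowers, ho])
  have hwC : w ∈ zpowers (z * x) := hcy.symm ▸ mem_centralizer_singleton_iff.2 hwx
  obtain ⟨i, rfl⟩ := (Submonoid.mem_powers_iff _ _).1 (mem_powers_iff_mem_zpowers.2 hwC)
  have h2 : ((z * x) ^ i) ^ 2 = 1 := hw ▸ pow_orderOf_eq_one _
  rw [← pow_mul] at h2
  have hd : 14 ∣ i * 2 := ho ▸ orderOf_dvd_of_pow_eq_one h2
  have hz7 : (z * x) ^ 7 = z := by
    rw [hzx.mul_pow, show x ^ 7 = 1 from hx ▸ pow_orderOf_eq_one x, mul_one,
      show 7 = 2 * 3 + 1 from rfl, pow_succ, pow_mul, show z ^ 2 = 1 from hz ▸ pow_orderOf_eq_one z,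
      one_pow, one_mul]
  rw [← pow_mod_orderOf, ho] at hw ⊢
  rcases (show i % 14 = 0 ∨ i % 14 = 7 by omega) with h | h
  · rw [h, pow_zero, orderOf_one] at hw; norm_num at hw
  · rw [h, hz7]

/-- A 7-element fixes only one block. -/
theorem seven_fixed_unique {x : G} (hx : orderOf x = 7) (hS : x • S = S) (hT : x • T = T) : S = T := by
  haveI : Fact (Nat.Prime 7) := ⟨by norm_num⟩
  obtain ⟨z, hz, hzx, huniq⟩ := seven_invol K hx
  have hmem : ∀ V : K.Bk, x • V = V → z ∈ V.ker := by
    intro V hV
    have h := cent_mod (q := 7) (hx ▸ pow_orderOf_eq_one x) V.ker fun y hy => conj_mem_of_smul hV hy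
    rw [card_ker] at h
    have h1 : 1 < Nat.card (V.ker ⊓ centralizer ({x} : Set G) : Subgroup G) := by omega
    haveI := Finite.one_lt_card_iff_nontrivial.1 h1
    obtain ⟨⟨y, hy⟩, hy1'⟩ := exists_ne (1 : (V.ker ⊓ centralizer ({x} : Set G) : Subgroup G))
    have hy1 : y ≠ 1 := fun e => hy1' (Subtype.ext e)
    rw [← huniq y (two hy.1 hy1) (mem_centralizer_singleton_iff.1 hy.2)]
    exact hy.1
  exact eq_of_share (hmem S hS) (hmem T hT) (ne_one_of_two hz)

/-- A 5-element fixing a block fixes at most three. -/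
theorem card_five_fixed {f : G} (hf : orderOf f = 5) (hS : f • S = S) :
    Nat.card {T : K.Bk // f • T = T} = 3 := by
  haveI : Fact (Nat.Prime 5) := ⟨by norm_num⟩
  set P := zpowers f
  set L := normalizer (P : Set G)
  have hL : Nat.card L = 60 := K.loc.five_norm f hf
  have hmemL : ∀ {g : G}, g ∈ L → ∀ V : K.Bk, f • V = V → f • (g • V) = g • V := by
    intro g hg V hV
    have h1 : g⁻¹ * f * g ∈ P := by
      have := (mem_normalizer_iff.1 (inv_mem hg) f).1 (mem_zpowers f)
      simpa using this
    have h2 : P ≤ stabilizer G V := zpowers_le.2 hV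
    have h3 := h2 h1
    rw [mem_stabilizer_iff] at h3
    conv_rhs => rw [← h3]
    rw [← mul_smul, ← mul_smul, show g * (g⁻¹ * f * g) = f * g by group]
  -- the normalizer of the subgroup of order five is transitive on its fixed blocks
  have htrans : ∀ T : K.Bk, f • T = T → ∃ g ∈ L, g • S = T := by
    intro T hT
    obtain ⟨g, hg⟩ := exists_smul_eq G S T
    have hN : Nat.card (stabilizer G T) = 40320 := card_stab T
    set A : Subgroup (stabilizer G T) := (zpowers f).subgroupOf (stabilizer G T)
    set B : Subgroup (stabilizer G T) := (zpowers (g * f * g⁻¹)).subgroupOf (stabilizer G T)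
    have hA : zpowers f ≤ stabilizer G T := zpowers_le.2 hT
    have hB : zpowers (g * f * g⁻¹) ≤ stabilizer G T := zpowers_le.2 (by
      rw [mem_stabilizer_iff, mul_smul, mul_smul, show g⁻¹ • T = S by rw [← hg, inv_smul_smul], hS, hg])
    have hcA : Nat.card A = 5 := by
      rw [Nat.card_congr (subgroupOfEquivOfLe hA).toEquiv, Nat.card_zpowers, hf]
    have hcB : Nat.card B = 5 := by
      rw [Nat.card_congr (subgroupOfEquivOfLe hB).toEquiv, Nat.card_zpowers, ← MulAut.conj_apply,
        MulEquiv.orderOf_eq, hf]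
    have hfac : (Nat.card (stabilizer G T)).factorization 5 = 1 := by
      rw [hN, show 40320 = 5 ^ 1 * 8064 from rfl, Nat.factorization_mul (by norm_num) (by norm_num),
        Finsupp.add_apply, (Fact.out : Nat.Prime 5).factorization_pow, Finsupp.single_eq_same,
        Nat.factorization_eq_zero_of_not_dvd (by norm_num), add_zero]
    obtain ⟨⟨k, hk⟩, hk'⟩ := MulAction.exists_smul_eq (stabilizer G T)
      (Sylow.ofCard B (by rw [hfac, hcB, pow_one])) (Sylow.ofCard A (by rw [hfac, hcA, pow_one]))
    refine ⟨k * g, ?_, by rw [mul_smul, hg]; exact hk⟩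
    have hkA : ∀ y : G, y ∈ zpowers (g * f * g⁻¹) → k * y * k⁻¹ ∈ zpowers f := by
      intro y hy
      have h1 : (⟨k, hk⟩ * ⟨y, hB hy⟩ * ⟨k, hk⟩⁻¹ : stabilizer G T) ∈ A := by
        have h2 := congrArg (fun Q : Sylow 5 (stabilizer G T) => (Q : Subgroup (stabilizer G T))) hk'
        simp only [Sylow.coe_subgroup_smul, Sylow.coe_ofCard] at h2
        rw [← h2]
        exact ⟨⟨y, hB hy⟩, hy, rfl⟩
      exact h1
    have hmap : P.map (MulAut.conj (k * g)).toMonoidHom = P := by
      refine eq_of_le_of_card_ge ?_ (by rw [card_map_of_injective (MulAut.conj (k * g)).injective])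
      rintro _ ⟨y, hy, rfl⟩
      obtain ⟨i, rfl⟩ := mem_zpowers_iff.1 hy
      have h1 := hkA (g * f ^ i * g⁻¹) (mem_zpowers_iff.2 ⟨i, by rw [conj_zpow]⟩)
      simpa [mul_assoc] using h1
    rw [mem_normalizer_iff]
    intro y
    constructor
    · intro hy
      rw [← hmap]; exact ⟨y, hy, rfl⟩
    · intro hy
      rw [← hmap] at hy
      obtain ⟨y', hy', he⟩ := hy
      rw [MulEquiv.coe_toMonoidHom, ← MulAut.conj_apply] at he
      exact (MulAut.conj (k * g)).injective he ▸ hy'
  have hP : f ∈ L := Subgroup.le_normalizer (mem_zpowers f)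
  -- orbit and stabiliser inside the normalizer
  have horb : MulAction.orbit L S = {T : K.Bk | f • T = T} := by
    ext T
    constructor
    · rintro ⟨g, rfl⟩; exact hmemL g.2 S hS
    · intro hT
      obtain ⟨g, hg, he⟩ := htrans T hT
      exact ⟨⟨g, hg⟩, he⟩
  set F := Nat.card {T : K.Bk // f • T = T}
  have hF : F * Nat.card (stabilizer L S) = 60 := by
    have h := (stabilizer L S).card_mul_index
    rw [hL, index_eq_card, ← Nat.card_congr (orbitEquivQuotientStabilizer L S), horb] at h
    rw [← h, mul_comm]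
    rfl
  have h5 : 5 ∣ Nat.card (stabilizer L S) := by
    have hmem : (⟨f, hP⟩ : L) ∈ stabilizer L S := hS
    have := Subgroup.orderOf_dvd_natCard _ hmem
    rwa [← Subgroup.orderOf_coe, hf] at this
  have hmod := fixed_mod (q := 5) (MulAction.toPermHom G K.Bk f) (by
    rw [← map_pow, ← hf, pow_orderOf_eq_one, map_one])
  rw [card_bk] at hmod
  obtain ⟨m, hm⟩ := h5
  rw [hm] at hF
  have hF' : F ∣ 12 := ⟨m, Nat.eq_of_mul_eq_mul_left (show 0 < 5 by norm_num) (by linarith)⟩
  have hmod' : F % 5 = 3 := by simpa [F] using hmod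
  have := Nat.le_of_dvd (by norm_num) hF'
  interval_cases F <;> omega

end Kern

end CfsgLib.M23Nse
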