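import Cfsg.Agent.M23Nse.NormE.NoFix
import Cfsg.Agent.M23Nse.GeomModel

/-!
# A simple group of order 10200960 with the groups of order sixteen is the Mathieu group M₂₃

The 253 conjugates of the attached groups form the blocks of the geometry.
-/

set_option autoImplicit false

namespace CfsgLib.M23Nse

open Subgroup MulAction

universe u

variable {G : Type u} [Group G] [Finite G]

/-- The blocks given by the groups of order sixteen attached to the involutions. -/
def Kern.blocks (K : Kern G) : Blocks G K.Bk where
  ker := Kern.Bk.ker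
  card_X := Kern.card_bk K
  trans := inferInstance
  ker_le := Kern.ker_le_stabilizer
  ker_smul g S k := Kern.mem_ker_smul g S k
  card_ker := Kern.card_ker
  adj_symm _ _ h := Kern.adj_symm h
  card_adj S := Kern.card_adj S
  trans_adj _ _ _ h h' := Kern.trans_adj h h'
  trans_non _ _ _ hne hn hne' hn' := Kern.trans_non hne hn hne' hn'
  card_non _ _ hne hn := Kern.card_non hne hn
  conj_ker _ _ _ _ h hk hk1 hk' hk'1 := Kern.conj_ker h hk hk1 hk' hk'1
  six _ _ _ _ h h₁ h₂ hn₁ hn₂ := Kern.six h h₁ h₂ hn₁ hn₂
  nofix _ _ _ hne hn h := Kern.nofix hne hn h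

theorem iso_of_kern (K : Kern G) : Nonempty (G ≃* ↥Cfsg.Spor.M23) :=
  iso_of_blocks K.loc.simple K.loc.card K.blocks

end CfsgLib.M23Nse
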