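import Cfsg.Agent.M23Nse.NormE.Six
import Mathlib.GroupTheory.Perm.Finite

/-!
# The stabiliser of two other blocks fixes none of the seven orbits

Otherwise the stabiliser of the corresponding pair of adjacent blocks would permute five sets of
four blocks, and the kernel of that action would give an element of order three fixing all seven
orbits.
-/

set_option autoImplicit false
set_option linter.style.haveILetI false
set_option linter.unusedSectionVars false

namespace CfsgLib.M23Nse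

open Subgroup MulAction
open scoped Pointwise

universe u

variable {G : Type u} [Group G] [Finite G]

namespace Kern

variable {K : Kern G} {S T F : K.Bk}

theorem card_orbit_mul (M A : Subgroup G) (V : K.Bk) (o : Set K.Bk) (ho : ∀ g ∈ M, g • V ∈ o)
    (ho' : ∀ W ∈ o, ∃ g ∈ M, g • V = W) (hA : ∀ g : G, g ∈ A ↔ g ∈ M ∧ g • V = V) :
    Nat.card o * Nat.card A = Nat.card M := by
  have h := (stabilizer M V).card_mul_index
  rw [index_eq_card, ← Nat.card_congr (orbitEquivQuotientStabilizer M V)] at h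
  rw [← h, mul_comm]
  congr 1
  · exact Nat.card_congr
      { toFun := fun y => ⟨⟨y.1, ((hA y.1).1 y.2).1⟩, ((hA y.1).1 y.2).2⟩
        invFun := fun y => ⟨y.1.1, (hA y.1.1).2 ⟨y.1.2, y.2⟩⟩
        left_inv := fun y => rfl
        right_inv := fun y => rfl }
  · refine Nat.card_congr (Equiv.setCongr ?_)
    ext W
    constructor
    · intro hW
      obtain ⟨g, hg, he⟩ := ho' W hW
      exact ⟨⟨g, hg⟩, he⟩
    · rintro ⟨g, rfl⟩; exact ho g g.2

/-- The stabiliser of the two orbits meets the stabiliser of the adjacent pair in order 72. -/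
theorem card_both_orb (h : Adj Bk.ker S T) (hne : F ≠ S) (hn : ¬ Adj Bk.ker S F)
    (hfix : ∀ g ∈ both S F, g • orb S T = orb S T) :
    Nat.card ↥(both S T ⊓ stabilizer G (orb S F)) = 72 := by
  set o := orb S F
  set O := orb S T
  set M0 : Subgroup G := stabilizer G S ⊓ stabilizer G o ⊓ stabilizer G O
  have ho4 : Nat.card o = 4 := by
    have h1 := card_orb (S := S) (T := F)
    rw [card_non hne hn] at h1
    change Nat.card o * 4 = 16 at h1
    omega
  have hkM : ∀ k ∈ S.ker, k ∈ M0 := fun k hk =>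
    ⟨⟨ker_le_stabilizer S hk, ker_fix_orb hk F⟩, ker_fix_orb hk T⟩
  have hJ := card_orbit_mul M0 (both S F) F o
    (fun g hg => by
      have h1 : g • o = o := hg.1.2
      rw [← h1]
      exact Set.smul_mem_smul_set mem_orb_self)
    (fun W hW => by obtain ⟨k, hk, he⟩ := hW; exact ⟨k, hkM k hk, he⟩)
    (fun g => ⟨fun hg => ⟨⟨⟨hg.1, (smul_orb hg.1).trans (by rw [show g • F = F from hg.2])⟩,
      hfix g hg⟩, hg.2⟩, fun hg => ⟨hg.1.1.1, hg.2⟩⟩)
  have hA := card_orbit_mul M0 (both S T ⊓ stabilizer G o) T O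
    (fun g hg => by
      have h1 : g • O = O := hg.2
      rw [← h1]
      exact Set.smul_mem_smul_set mem_orb_self)
    (fun W hW => by obtain ⟨k, hk, he⟩ := hW; exact ⟨k, hkM k hk, he⟩)
    (fun g => ⟨fun hg => ⟨⟨⟨hg.1.1, hg.2⟩, (smul_orb hg.1.1).trans (by rw [show g • T = T from hg.1.2])⟩,
      hg.1.2⟩, fun hg => ⟨⟨hg.1.1.1, hg.2⟩, hg.1.1.2⟩⟩)
  rw [← hJ, ho4, card_both_non hne hn, show Nat.card O = 16 from card_orb_adj h] at hA
  omega

/-- An element of order three fixing two adjacent blocks, all of whose conjugates by their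
stabiliser commute with an element of order five, does not exist. -/
theorem no_three_central (h : Adj Bk.ker S T) {f : G} (hf : orderOf f = 5) (hfH : f ∈ both S T)
    {x : G} (hx : orderOf x = 3) (hxH : x ∈ both S T)
    (hcomm : ∀ g ∈ both S T, Commute (g⁻¹ * x * g) f) : False := by
  obtain ⟨O₁, hne, hO₁, huniq, -⟩ := five_orbits h hf hfH.1 hfH.2
  set fs : stabilizer G S := ⟨f, hfH.1⟩
  have key : ∀ u : stabilizer G S, (u : G) • T = T → Commute (u : G) f → u • O₁ = O₁ := by
    intro u huT huf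
    have h1 : fs • u • O₁ = u • O₁ := by
      rw [← mul_smul, show fs * u = u * fs from Subtype.ext huf.eq.symm, mul_smul, hO₁]
    rcases huniq _ h1 with e | e
    · rw [← smul_mkOrb_self h (g := u) huT] at e
      exact absurd (MulAction.injective u e) hne
    · exact e
  refine no_three_fixing (S := S) hx hxH.1 fun P => ?_
  set xs : stabilizer G S := ⟨x, hxH.1⟩
  by_cases hP : P = mkOrb h
  · rw [hP]; exact smul_mkOrb_self h (g := xs) hxH.2
  obtain ⟨g, hgT, hg⟩ := six_trans h hne hP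
  have h1 : (g⁻¹ * xs * g) • O₁ = O₁ := key _ (by
    show ((g : G)⁻¹ * x * (g : G)) • T = T
    rw [mul_smul, mul_smul, hgT, show x • T = T from hxH.2, inv_smul_eq_iff, hgT])
    (hcomm g ⟨g.2, hgT⟩)
  rw [mul_smul, mul_smul, hg, inv_smul_eq_iff, hg] at h1
  exact h1

/-- The kernel on the five sets of four blocks centralises an element of order five. -/
theorem three_kernel {H : Subgroup G} (R : Subgroup H) [R.Normal] (h3 : 3 ∣ Nat.card R) (h72 : Nat.card R ∣ 72)
    (K : Kern G) {f : G} (hf : orderOf f = 5) (hfH : f ∈ H) :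
    Nat.card R = 3 ∧ ∀ x ∈ R, Commute (x : G) f := by
  classical
  haveI : Fact (Nat.Prime 5) := ⟨by norm_num⟩
  haveI : Fact (Nat.Prime 3) := ⟨by norm_num⟩
  have hf5 : f ^ 5 = 1 := hf ▸ pow_orderOf_eq_one f
  set φ := MulAut.conjNormal (H := R) (⟨f, hfH⟩ : H)
  have hφ : φ ^ 5 = 1 := by
    rw [← map_pow, show (⟨f, hfH⟩ : H) ^ 5 = 1 from Subtype.ext (by rw [SubgroupClass.coe_pow]; exact hf5),
      map_one]
  have hfixQ := fixed_mod (q := 5) (MulAction.toPermHom (MulAut R) (Sylow 3 R) φ) (by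
    rw [← map_pow, hφ, map_one])
  have h5 : ¬ 5 ∣ Nat.card (Sylow 3 R) := fun h5 => by
    obtain ⟨Q⟩ : Nonempty (Sylow 3 R) := inferInstance
    have := (h5.trans ((Sylow.card_dvd_index Q).trans (index_dvd_card _))).trans h72
    norm_num at this
  have hpos : 0 < Nat.card {Q : Sylow 3 R // MulAction.toPermHom (MulAut R) (Sylow 3 R) φ Q = Q} := by
    rcases Nat.eq_zero_or_pos (Nat.card {Q : Sylow 3 R // MulAction.toPermHom (MulAut R) (Sylow 3 R) φ Q = Q})
      with h0 | h0
    · rw [h0, Nat.zero_mod] at hfixQ; exact absurd (Nat.dvd_of_mod_eq_zero hfixQ.symm) h5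
    · exact h0
  obtain ⟨⟨Q, hQ⟩⟩ := (Nat.card_pos_iff.1 hpos).1
  set R' : Subgroup G := R.map H.subtype
  set Q' : Subgroup G := ((Q : Subgroup R).map R.subtype).map H.subtype
  have hR' : Nat.card R' = Nat.card R := card_map_of_injective H.subtype_injective
  have hQ' : Nat.card Q' = Nat.card (Q : Subgroup R) := by
    rw [card_map_of_injective H.subtype_injective, card_map_of_injective R.subtype_injective]
  have hQR : Q' ≤ R' := map_mono (map_subtype_le _)
  have hnormQ : ∀ v ∈ Q', f * v * f⁻¹ ∈ Q' := by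
    rintro _ ⟨_, ⟨q, hq, rfl⟩, rfl⟩
    have hmem : φ q ∈ (Q : Subgroup R) := by
      have h1 : φ • q ∈ (φ • Q : Sylow 3 R).toSubgroup := Subgroup.smul_mem_pointwise_smul q φ _ hq
      rwa [show φ • Q = Q from hQ] at h1
    exact ⟨_, ⟨φ q, hmem, rfl⟩, rfl⟩
  have hnormR : ∀ v ∈ R', f * v * f⁻¹ ∈ R' := by
    rintro _ ⟨v, hv, rfl⟩
    exact ⟨_, (inferInstance : R.Normal).conj_mem v hv ⟨f, hfH⟩, rfl⟩
  have h15 : ∀ A : Subgroup G, Nat.card ↥(A ⊓ centralizer ({f} : Set G)) ∣ 15 := fun A =>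
    K.loc.five f hf ▸ card_dvd_of_le inf_le_right
  -- the fixed Sylow subgroup has order three and commutes with `f`
  obtain ⟨j, hj⟩ := IsPGroup.iff_card.1 Q.isPGroup'
  have hj1 : 3 ∣ Nat.card (Q : Subgroup R) := Q.dvd_card_of_dvd_card h3
  have hj72 : Nat.card (Q : Subgroup R) ∣ 72 := (card_subgroup_dvd_card _).trans h72
  have hmodQ := cent_mod (q := 5) hf5 Q' hnormQ
  have hAQ : Nat.card ↥(Q' ⊓ centralizer ({f} : Set G)) ∣ Nat.card Q' := card_dvd_of_le inf_le_left
  have hA15 := h15 Q'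
  rw [hQ'] at hmodQ hAQ
  rw [hj] at hj1 hj72 hmodQ hAQ
  have hj2 : j ≤ 2 := by
    by_contra hlt
    have := (Nat.pow_dvd_pow 3 (show 3 ≤ j by omega)).trans hj72
    norm_num at this
  have hQC : 3 ^ j = 3 ∧ Nat.card ↥(Q' ⊓ centralizer ({f} : Set G)) = 3 := by
    have hb : Nat.card ↥(Q' ⊓ centralizer ({f} : Set G)) ∣ 3 := by
      interval_cases j
      · exact hAQ.trans (by norm_num)
      · exact hAQ
      · exact (Nat.dvd_gcd hA15 hAQ)
    have hb' := (Nat.dvd_prime (by norm_num)).1 hb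
    interval_cases j <;> rcases hb' with e | e <;> revert hj1 hmodQ <;>
      rw [e] <;> norm_num
  -- the whole kernel
  have h9 : ¬ 9 ∣ Nat.card R := fun h9 => by
    have hm := (Q : Subgroup R).card_mul_index
    rw [hj, hQC.1] at hm
    rw [← hm] at h9
    exact Q.not_dvd_index (Nat.dvd_of_mul_dvd_mul_left (show 0 < 3 by norm_num) h9)
  have hC3 : Nat.card ↥(R' ⊓ centralizer ({f} : Set G)) = 3 := by
    have h1 : 3 ∣ Nat.card ↥(R' ⊓ centralizer ({f} : Set G)) :=
      hQC.2 ▸ card_dvd_of_le (inf_le_inf_right _ hQR)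
    have h2 : Nat.card ↥(R' ⊓ centralizer ({f} : Set G)) ∣ Nat.card R' := card_dvd_of_le inf_le_left
    have hd : Nat.card ↥(R' ⊓ centralizer ({f} : Set G)) ∣ Nat.gcd 15 72 :=
      Nat.dvd_gcd (h15 R') (h2.trans (by rw [hR']; exact h72))
    exact Nat.dvd_antisymm hd h1
  have hmodR := cent_mod (q := 5) hf5 R' hnormR
  rw [hC3, hR'] at hmodR
  have hR3 : Nat.card R = 3 := by
    have hle := Nat.le_of_dvd (by norm_num) h72
    interval_cases hc : Nat.card R <;> omega
  refine ⟨hR3, fun x hx => ?_⟩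
  have heq := eq_of_le_of_card_ge (inf_le_left : R' ⊓ centralizer ({f} : Set G) ≤ R') (by rw [hC3, hR', hR3])
  exact mem_centralizer_singleton_iff.1 (heq.ge (mem_map_of_mem H.subtype hx)).2

/-- The stabiliser of two other blocks fixes none of the seven orbits. -/
theorem nofix (hne : F ≠ S) (hn : ¬ Adj Bk.ker S F) (h : Adj Bk.ker S T) :
    ∃ g : G, g • S = S ∧ g • F = F ∧ ∀ k ∈ S.ker, g • T ≠ k • T := by
  classical
  by_contra hcon
  push Not at hcon
  have hfix : ∀ g ∈ both S F, g • orb S T = orb S T := fun g hg => by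
    obtain ⟨k, hk, he⟩ := hcon g hg.1 hg.2
    rw [smul_orb hg.1]
    exact orb_eq_of_mem ⟨k, hk, he.symm⟩
  set H := both S T
  set o := orb S F
  have hA : Nat.card ↥(H ⊓ stabilizer G o) = 72 := card_both_orb h hne hn hfix
  set Ω := MulAction.orbit H o
  set ψ : H →* Equiv.Perm Ω := MulAction.toPermHom H Ω
  have hΩ : Nat.card Ω = 5 := by
    have h1 := (stabilizer H o).card_mul_index
    rw [index_eq_card, ← Nat.card_congr (orbitEquivQuotientStabilizer H o), card_both_adj h] at h1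
    have h2 : Nat.card (stabilizer H o) = 72 := by
      rw [← hA]
      exact Nat.card_congr
        { toFun := fun y => ⟨y.1.1, y.1.2, y.2⟩
          invFun := fun y => ⟨⟨y.1, y.2.1⟩, y.2.2⟩
          left_inv := fun y => rfl
          right_inv := fun y => rfl }
    rw [h2] at h1
    change 72 * Nat.card Ω = 360 at h1
    omega
  have hkerfix : ∀ x ∈ ψ.ker, (x : G) • o = o := fun x hx =>
    congrArg Subtype.val (Equiv.congr_fun hx ⟨o, MulAction.mem_orbit_self o⟩)
  have h72 : Nat.card ψ.ker ∣ 72 := by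
    rw [← hA, ← card_map_of_injective H.subtype_injective (K := ψ.ker)]
    refine card_dvd_of_le ?_
    rintro _ ⟨x, hx, rfl⟩
    exact ⟨x.2, hkerfix x hx⟩
  have h3 : 3 ∣ Nat.card ψ.ker := by
    have h1 := ψ.ker.card_mul_index
    rw [index_ker, card_both_adj h] at h1
    have h2 : Nat.card ψ.range ∣ 120 := by
      have := card_subgroup_dvd_card ψ.range
      rwa [Nat.card_perm, hΩ] at this
    obtain ⟨b, hb⟩ := h2
    refine ⟨b, Nat.eq_of_mul_eq_mul_right (Nat.card_pos (α := ψ.range)) ?_⟩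
    rw [h1, mul_assoc, mul_comm b, ← hb]
    norm_num
  obtain ⟨f, hf, hfH⟩ := exists_five h
  obtain ⟨hR3, hcomm⟩ := three_kernel (H := H) ψ.ker h3 h72 K hf hfH
  haveI : Fact (Nat.Prime 3) := ⟨by norm_num⟩
  obtain ⟨x, hx⟩ := exists_prime_orderOf_dvd_card' (G := ψ.ker) 3 (by rw [hR3])
  refine no_three_central h hf hfH (x := ((x : H) : G)) ?_ (x : H).2 fun g hg => ?_
  · rw [Subgroup.orderOf_coe, Subgroup.orderOf_coe, hx]
  · exact hcomm _ ((MonoidHom.normal_ker ψ).conj_mem' (x : H) x.2 ⟨g, hg⟩)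

end Kern

end CfsgLib.M23Nse
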