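import Cfsg.Agent.M23Nse.NormE.Fixed

/-!
# The seven orbits on the adjacent blocks

The stabiliser of a block permutes transitively the seven orbits of its kernel on the 112
adjacent blocks, and the stabiliser of two adjacent blocks has order 360.
-/

set_option autoImplicit false
set_option linter.style.haveILetI false
set_option linter.unusedSectionVars false

namespace CfsgLib.M23Nse

open Subgroup MulAction
open scoped Pointwise

universe u

variable {G : Type u} [Group G] [Finite G]

namespace Kern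

variable {K : Kern G} {S T T' : K.Bk}

/-- The orbit of a block under the kernel of another. -/
def orb (S T : K.Bk) : Set K.Bk := {V | ∃ k ∈ S.ker, k • T = V}

theorem mem_orb_self : T ∈ orb S T := ⟨1, one_mem _, one_smul _ _⟩

theorem orb_eq_of_mem (h : T' ∈ orb S T) : orb S T' = orb S T := by
  obtain ⟨k, hk, rfl⟩ := h
  ext V
  constructor
  · rintro ⟨l, hl, rfl⟩; exact ⟨l * k, mul_mem hl hk, mul_smul _ _ _⟩
  · rintro ⟨l, hl, rfl⟩
    exact ⟨l * k⁻¹, mul_mem hl (inv_mem hk), by rw [← mul_smul, inv_mul_cancel_right]⟩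

theorem orb_eq_iff : orb S T' = orb S T ↔ T' ∈ orb S T :=
  ⟨fun h => h ▸ mem_orb_self, orb_eq_of_mem⟩

theorem smul_orb {g : G} (hg : g • S = S) : g • orb S T = orb S (g • T) := by
  have hg' : g⁻¹ • S = S := inv_smul_eq_iff.2 hg.symm
  ext V
  rw [Set.mem_smul_set_iff_inv_smul_mem]
  constructor
  · rintro ⟨k, hk, he⟩
    refine ⟨g * k * g⁻¹, conj_mem_of_smul hg hk, ?_⟩
    rw [mul_smul, mul_smul, inv_smul_smul, he, smul_inv_smul]
  · rintro ⟨k, hk, rfl⟩
    refine ⟨g⁻¹ * k * g, ?_, by rw [mul_smul, mul_smul]⟩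
    simpa using conj_mem_of_smul hg' hk

theorem adj_of_mem_orb (h : Adj Bk.ker S T) (hV : T' ∈ orb S T) : Adj Bk.ker S T' := by
  obtain ⟨k, hk, rfl⟩ := hV
  exact adj_smul (ker_le_stabilizer S hk) h

theorem card_orb : Nat.card (orb S T) * Nat.card (meet S T) = 16 := by
  have he : orb S T = MulAction.orbit S.ker T := by
    ext V
    constructor
    · rintro ⟨k, hk, rfl⟩; exact ⟨⟨k, hk⟩, rfl⟩
    · rintro ⟨k, rfl⟩; exact ⟨k, k.2, rfl⟩
  have h := (stabilizer S.ker T).card_mul_index
  rw [index_eq_card, ← Nat.card_congr (orbitEquivQuotientStabilizer S.ker T), card_ker] at h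
  rw [he, ← h, mul_comm]
  congr 1
  exact Nat.card_congr
    { toFun := fun y => ⟨⟨y.1, y.2.1⟩, y.2.2⟩
      invFun := fun y => ⟨y.1.1, y.1.2, y.2⟩
      left_inv := fun y => rfl
      right_inv := fun y => rfl }

theorem card_orb_adj (h : Adj Bk.ker S T) : Nat.card (orb S T) = 16 := by
  have h1 := card_orb (S := S) (T := T)
  rwa [show meet S T = ⊥ from h.2, card_bot, mul_one] at h1

/-- The orbits on the adjacent blocks. -/
def Orbs (S : K.Bk) : Type u := {O : Set K.Bk // ∃ T, Adj Bk.ker S T ∧ orb S T = O}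

instance (S : K.Bk) : Finite (Orbs S) := Subtype.finite

instance (S : K.Bk) : SMul (stabilizer G S) (Orbs S) :=
  ⟨fun g O => ⟨(g : G) • O.1, by
    obtain ⟨T, hT, hO⟩ := O.2
    exact ⟨(g : G) • T, adj_smul g.2 hT, by rw [← smul_orb g.2, hO]⟩⟩⟩

instance (S : K.Bk) : MulAction (stabilizer G S) (Orbs S) where
  one_smul O := Subtype.ext (one_smul G O.1)
  mul_smul g h O := Subtype.ext (mul_smul (g : G) (h : G) O.1)

/-- The orbit of an adjacent block. -/
def mkOrb (h : Adj Bk.ker S T) : Orbs S := ⟨orb S T, T, h, rfl⟩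

theorem smul_mkOrb (g : stabilizer G S) (h : Adj Bk.ker S T) :
    g • mkOrb h = mkOrb (adj_smul g.2 h) := Subtype.ext (smul_orb g.2)

theorem card_orbs (S : K.Bk) : Nat.card (Orbs S) = 7 := by
  classical
  haveI := Fintype.ofFinite (Orbs S)
  have e : (Σ O : Orbs S, O.1) ≃ {T : K.Bk // Adj Bk.ker S T} :=
    Equiv.ofBijective (fun p => ⟨p.2.1, by
      obtain ⟨T, hT, hO⟩ := p.1.2
      exact adj_of_mem_orb hT (by rw [hO]; exact p.2.2)⟩) ⟨by
      rintro ⟨⟨O, T, hT, hO⟩, V, hV⟩ ⟨⟨O', T', hT', hO'⟩, V', hV'⟩ he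
      have h : V = V' := congrArg Subtype.val he
      subst h hO hO'
      have h' : orb S T = orb S T' :=
        (orb_eq_of_mem hV).symm.trans (orb_eq_of_mem hV')
      exact Sigma.subtype_ext (Subtype.ext h') rfl,
      fun T => ⟨⟨mkOrb T.2, T.1, mem_orb_self⟩, rfl⟩⟩
  have h := Nat.card_congr e
  rw [Nat.card_sigma, card_adj] at h
  have h16 : ∀ O : Orbs S, Nat.card O.1 = 16 := by
    rintro ⟨O, T, hT, rfl⟩; exact card_orb_adj hT
  simp only [h16, Finset.sum_const, Finset.card_univ, smul_eq_mul] at h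
  rw [Nat.card_eq_fintype_card]
  omega

theorem exists_seven (S : K.Bk) : ∃ w : G, orderOf w = 7 ∧ w • S = S := by
  haveI : Fact (Nat.Prime 7) := ⟨by norm_num⟩
  obtain ⟨w, hw⟩ := exists_prime_orderOf_dvd_card' (G := stabilizer G S) 7 (by rw [card_stab]; norm_num)
  exact ⟨w, by rw [Subgroup.orderOf_coe, hw], w.2⟩

/-- An element of prime order fixing an orbit fixes a block in it. -/
theorem exists_fixed_in_orb {q : ℕ} [Fact q.Prime] (hq : 16 % q ≠ 0) {x : G} (hx : x ^ q = 1)
    (h : Adj Bk.ker S T) (hO : x • orb S T = orb S T) : ∃ V ∈ orb S T, x • V = V := by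
  classical
  let σ : Equiv.Perm (orb S T) := (MulAction.toPerm x).subtypePerm fun V => by
    conv_lhs => rw [MulAction.toPerm_apply, ← hO]
    exact Set.smul_mem_smul_set_iff
  have hσn : ∀ (n : ℕ) (V : orb S T), ((σ ^ n) V : K.Bk) = x ^ n • (V : K.Bk) := by
    intro n
    induction n with
    | zero => intro V; simp
    | succ n ih =>
      intro V
      rw [pow_succ, Equiv.Perm.mul_apply, ih, pow_succ, mul_smul]
      rfl
  have h1 := fixed_mod (q := q) σ (Equiv.ext fun V => Subtype.ext (by rw [hσn, hx, one_smul]; rfl))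
  rw [card_orb_adj h] at h1
  have h2 : 0 < Nat.card {V : orb S T // σ V = V} := by
    rcases Nat.eq_zero_or_pos (Nat.card {V : orb S T // σ V = V}) with h0 | h0
    · rw [h0, Nat.zero_mod] at h1; exact absurd h1.symm hq
    · exact h0
  obtain ⟨⟨⟨V, hV⟩, hfix⟩⟩ := (Nat.card_pos_iff.1 h2).1
  exact ⟨V, hV, congrArg Subtype.val hfix⟩

/-- The stabiliser of a block is transitive on the seven orbits. -/
theorem orbs_trans (O O' : Orbs S) : ∃ g : stabilizer G S, g • O = O' := by
  classical
  haveI : Fact (Nat.Prime 7) := ⟨by norm_num⟩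
  obtain ⟨w, hw, hwS⟩ := exists_seven S
  set g : stabilizer G S := ⟨w, hwS⟩
  have hne : ∀ O : Orbs S, g • O ≠ O := by
    intro O hfix
    obtain ⟨T, hT, hO⟩ := O.2
    obtain ⟨V, hV, hfV⟩ := exists_fixed_in_orb (q := 7) (by norm_num) (hw ▸ pow_orderOf_eq_one w) hT (by
      rw [hO]; exact congrArg Subtype.val hfix)
    exact (adj_of_mem_orb hT hV).1 (seven_fixed_unique hw hwS hfV)
  haveI := Fintype.ofFinite (Orbs S)
  haveI : Fact (Fintype.card (Orbs S)).Prime := ⟨by rw [← Nat.card_eq_fintype_card, card_orbs]; norm_num⟩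
  set σ := MulAction.toPermHom (stabilizer G S) (Orbs S) g
  have hσ : orderOf σ = 7 := by
    refine orderOf_eq_prime ?_ fun e => hne O (Equiv.congr_fun e O)
    rw [← map_pow, show g ^ 7 = 1 from Subtype.ext (by
      rw [SubgroupClass.coe_pow]; exact hw ▸ pow_orderOf_eq_one w), map_one]
  have hcyc : σ.IsCycle := Equiv.Perm.isCycle_of_prime_order'' (by
    rw [← Nat.card_eq_fintype_card, card_orbs]; norm_num) (by
    rw [hσ, ← Nat.card_eq_fintype_card, card_orbs])
  obtain ⟨i, hi⟩ := hcyc.exists_pow_eq (hne O) (hne O')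
  exact ⟨g ^ i, by rw [← map_pow] at hi; exact hi⟩

/-- The stabiliser of a block is transitive on the adjacent blocks. -/
theorem trans_adj (h : Adj Bk.ker S T) (h' : Adj Bk.ker S T') : ∃ g : G, g • S = S ∧ g • T = T' := by
  obtain ⟨g, hg⟩ := orbs_trans (mkOrb h) (mkOrb h')
  have h1 : T' ∈ orb S ((g : G) • T) := by
    rw [← smul_orb g.2, show (g : G) • orb S T = orb S T' from congrArg Subtype.val hg]
    exact mem_orb_self
  obtain ⟨k, hk, he⟩ := h1
  exact ⟨k * g, by rw [mul_smul, g.2, ker_le_stabilizer S hk], by rw [mul_smul, he]⟩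

/-- The common stabiliser. -/
def both (S T : K.Bk) : Subgroup G := stabilizer G S ⊓ stabilizer G T

theorem mem_both {g : G} : g ∈ both S T ↔ g • S = S ∧ g • T = T := Iff.rfl

theorem card_both_mul (p : K.Bk → Prop) (hp : ∀ g : G, g • S = S → ∀ V, p V → p (g • V)) (hT : p T)
    (htr : ∀ V, p V → ∃ g : G, g • S = S ∧ g • T = V) {m : ℕ} (hm : Nat.card {V // p V} = m) :
    m * Nat.card (both S T) = 40320 := by
  have h := (stabilizer (stabilizer G S) T).card_mul_index
  rw [index_eq_card, ← Nat.card_congr (orbitEquivQuotientStabilizer (stabilizer G S) T), card_stab] at h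
  rw [← h, mul_comm]
  congr 1
  · exact Nat.card_congr
      { toFun := fun y => ⟨⟨y.1, y.2.1⟩, y.2.2⟩
        invFun := fun y => ⟨y.1.1, y.1.2, y.2⟩
        left_inv := fun y => rfl
        right_inv := fun y => rfl }
  · rw [← hm]
    refine Nat.card_congr (Equiv.setCongr ?_)
    ext V
    constructor
    · intro hV
      obtain ⟨g, hg, he⟩ := htr V hV
      exact ⟨⟨g, hg⟩, he⟩
    · rintro ⟨g, rfl⟩; exact hp g g.2 T hT

theorem card_both_adj (h : Adj Bk.ker S T) : Nat.card (both S T) = 360 := by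
  have := card_both_mul (fun V => Adj Bk.ker S V) (fun g hg V => adj_smul hg) h
    (fun V hV => trans_adj h hV) (card_adj S)
  omega

theorem card_both_non (hne : T ≠ S) (hn : ¬ Adj Bk.ker S T) : Nat.card (both S T) = 288 := by
  have := card_both_mul (T := T) (fun V => V ≠ S ∧ ¬ Adj Bk.ker S V) (fun g hg V hV => by
    have hg' : g⁻¹ • S = S := inv_smul_eq_iff.2 hg.symm
    refine ⟨fun e => hV.1 (by rw [← inv_smul_smul g V, e, hg']), fun hA => hV.2 ?_⟩
    have := adj_smul hg' hA
    rwa [inv_smul_smul] at this) ⟨hne, hn⟩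
    (fun V hV => trans_non hne hn hV.1 hV.2) (card_non_adj S)
  omega

/-- The stabiliser of two adjacent blocks is transitive on the nontrivial kernel elements. -/
theorem conj_ker (h : Adj Bk.ker S T) {k k' : G} (hk : k ∈ S.ker) (hk1 : k ≠ 1) (hk' : k' ∈ S.ker)
    (hk'1 : k' ≠ 1) : ∃ g : G, g • S = S ∧ g • T = T ∧ g * k * g⁻¹ = k' := by
  classical
  set H := both S T
  set Ω := {y : G // y ∈ S.ker ∧ y ≠ 1}
  have hmem : ∀ g : H, ∀ y : Ω, (g : G) * y * (g : G)⁻¹ ∈ S.ker ∧ (g : G) * y * (g : G)⁻¹ ≠ 1 :=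
    fun g y => ⟨conj_mem_of_smul g.2.1 y.2.1, fun e => y.2.2 (conj_eq_one_iff.1 e)⟩
  letI : MulAction H Ω :=
    { smul := fun g y => ⟨(g : G) * y * (g : G)⁻¹, hmem g y⟩
      one_smul := fun y => Subtype.ext (by show (1 : G) * y * (1 : G)⁻¹ = y; group)
      mul_smul := fun a b y => Subtype.ext (by
        show ((a : G) * b) * y * ((a : G) * b)⁻¹ = (a : G) * ((b : G) * y * (b : G)⁻¹) * (a : G)⁻¹
        group) }
  have hΩ : Nat.card Ω = 15 := by rw [card_nonone, card_ker]
  set z : Ω := ⟨k, hk, hk1⟩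
  set C := centralizer ({k} : Set G)
  -- the stabiliser embeds into the centraliser modulo the block
  set A : Subgroup G := H ⊓ C
  have hAC : Nat.card A ∣ 168 := by
    have hC : Nat.card C = 2688 := K.loc.inv_card k (two hk hk1)
    have hSC : S.ker ≤ C := fun y hy => mem_centralizer_singleton_iff.2 (comm hy hk)
    haveI : (S.ker.subgroupOf C).Normal := ⟨fun y hy g => by
      rw [mem_subgroupOf] at hy ⊢
      exact conj_mem_of_smul (smul_eq_of_commute hk hk1 (mem_centralizer_singleton_iff.1 g.2)) hy⟩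
    have hq : Nat.card (C ⧸ S.ker.subgroupOf C) = 168 := by
      have h1 := card_eq_card_quotient_mul_card_subgroup (S.ker.subgroupOf C)
      rw [hC, Nat.card_congr (subgroupOfEquivOfLe hSC).toEquiv, card_ker] at h1
      omega
    rw [← hq]
    refine card_dvd_of_injective ((QuotientGroup.mk' (S.ker.subgroupOf C)).comp
      (inclusion (inf_le_right : A ≤ C))) ((injective_iff_map_eq_one _).2 fun a ha => Subtype.ext ?_)
    have h0 : inclusion (inf_le_right : A ≤ C) a ∈ S.ker.subgroupOf C := (QuotientGroup.eq_one_iff _).1 ha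
    have h1 : (a : G) ∈ meet S T := mem_meet.2 ⟨mem_subgroupOf.1 h0, a.2.1.2⟩
    rwa [show meet S T = ⊥ from h.2, mem_bot] at h1
  have hA : Nat.card (stabilizer H z) = Nat.card A := Nat.card_congr
    { toFun := fun g => ⟨g.1.1, g.1.2, mem_centralizer_singleton_iff.2
        (mul_inv_eq_iff_eq_mul.1 (congrArg Subtype.val g.2))⟩
      invFun := fun g => ⟨⟨g.1, g.2.1⟩, Subtype.ext
        (mul_inv_eq_iff_eq_mul.2 (mem_centralizer_singleton_iff.1 g.2.2))⟩
      left_inv := fun g => rfl
      right_inv := fun g => rfl }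
  have horb : Nat.card (MulAction.orbit H z) * Nat.card A = 360 := by
    have h1 := (stabilizer H z).card_mul_index
    rw [index_eq_card, ← Nat.card_congr (orbitEquivQuotientStabilizer H z), hA, card_both_adj h] at h1
    rw [← h1, mul_comm]
  have hle : Nat.card (MulAction.orbit H z) ≤ 15 := hΩ ▸ Finite.card_subtype_le _
  have hA24 : Nat.card A ∣ 24 := by
    exact Nat.dvd_gcd (⟨Nat.card (MulAction.orbit H z), by rw [mul_comm]; exact horb.symm⟩ :
      Nat.card A ∣ 360) hAC
  have h15 : Nat.card (MulAction.orbit H z) = 15 := by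
    have h24 := Nat.le_of_dvd (by norm_num) hA24
    have hge : 15 ≤ Nat.card (MulAction.orbit H z) := by
      by_contra hlt
      have := Nat.mul_le_mul (show Nat.card (MulAction.orbit H z) ≤ 14 by omega) h24
      omega
    omega
  have hall : (⟨k', hk', hk'1⟩ : Ω) ∈ MulAction.orbit H z := by
    haveI := Fintype.ofFinite Ω
    by_contra hno
    have h1 : Nat.card (MulAction.orbit H z) < Nat.card Ω := by
      refine Finite.card_subtype_lt (x := (⟨k', hk', hk'1⟩ : Ω)) hno
    omega
  obtain ⟨g, hg⟩ := hall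
  exact ⟨g.1, g.2.1, g.2.2, congrArg Subtype.val hg⟩

end Kern

end CfsgLib.M23Nse
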