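import Cfsg.Agent.M23Nse.NormE.Setup

/-!
# Pairs of blocks

Two different blocks meet trivially; the elements of one normalizing the other form a group of
order one or four, and the first case occurs for 112 of the 252 other blocks.
-/

set_option autoImplicit false
set_option linter.style.haveILetI false
set_option linter.unusedSectionVars false

namespace CfsgLib.M23Nse

open Subgroup MulAction

universe u

variable {G : Type u} [Group G] [Finite G]

namespace Kern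

variable {K : Kern G} {S T : K.Bk}

/-- The elements of `S` normalizing `T`. -/
def meet (S T : K.Bk) : Subgroup G := S.ker ⊓ stabilizer G T

theorem mem_meet {y : G} : y ∈ meet S T ↔ y ∈ S.ker ∧ y • T = T := by
  rw [meet, Subgroup.mem_inf, mem_stabilizer_iff]

theorem meet_self : meet S S = S.ker := inf_eq_left.2 (ker_le_stabilizer S)

theorem not_mem_other (hne : S ≠ T) {y : G} (hy : y ∈ S.ker) (h1 : y ≠ 1) : y ∉ T.ker :=
  fun h => hne (eq_of_share hy h h1)

theorem exists_fixed {y : G} (hy2 : y * y = 1) (hy : y • T = T) :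
    ∃ x ∈ T.ker, x ≠ 1 ∧ Commute x y := by
  have hcard : 1 < Nat.card T.ker := by rw [card_ker]; norm_num
  haveI := Finite.one_lt_card_iff_nontrivial.1 hcard
  obtain ⟨⟨x, hx⟩, hx1'⟩ := exists_ne (1 : T.ker)
  have hx1 : x ≠ 1 := fun e => hx1' (Subtype.ext e)
  have hinv : y⁻¹ = y := inv_eq_of_mul_eq_one_right hy2
  have hx' : y * x * y ∈ T.ker := by
    have := conj_mem_of_smul hy hx
    rwa [hinv] at this
  by_cases h : y * x * y = x
  · refine ⟨x, hx, hx1, ?_⟩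
    calc x * y = y * x * y * y := by rw [h]
      _ = y * x * (y * y) := by group
      _ = y * x := by rw [hy2, mul_one]
  · refine ⟨x * (y * x * y), mul_mem hx hx', fun e => h ?_, ?_⟩
    · calc y * x * y = 1 * (y * x * y) := (one_mul _).symm
        _ = x * x * (y * x * y) := by rw [mul_self hx]
        _ = x * (x * (y * x * y)) := by group
        _ = x := by rw [e, mul_one]
    · calc x * (y * x * y) * y = x * (y * x) * (y * y) := by group
        _ = x * (y * x) := by rw [hy2, mul_one]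
        _ = y * y * (x * (y * x)) := by rw [hy2, one_mul]
        _ = y * ((y * x * y) * x) := by group
        _ = y * (x * (y * x * y)) := by rw [(comm hx' hx).eq]

/-- The two groups of normalizing elements commute with each other. -/
theorem commute_meet (hne : S ≠ T) {w u : G} (hw : w ∈ meet S T) (hu : u ∈ meet T S) : Commute w u := by
  rw [mem_meet] at hw hu
  have hT : w * u * w⁻¹ * u⁻¹ ∈ T.ker := mul_mem (conj_mem_of_smul hw.2 hu.1) (inv_mem hu.1)
  have hS : w * u * w⁻¹ * u⁻¹ ∈ S.ker := by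
    have h := mul_mem hw.1 (conj_mem_of_smul hu.2 (inv_mem hw.1))
    simpa [mul_assoc] using h
  by_contra hc
  refine not_mem_other hne hS (fun e => hc ?_) hT
  exact mul_inv_eq_iff_eq_mul.1 (mul_inv_eq_one.1 e)

theorem meet_eq_bot_of (hne : S ≠ T) (h : meet S T = ⊥) : meet T S = ⊥ := by
  rw [eq_bot_iff]
  intro u hu
  by_contra h1
  rw [Subgroup.mem_bot] at h1
  rw [mem_meet] at hu
  obtain ⟨x, hx, hx1, hc⟩ := exists_fixed (mul_self hu.1) hu.2
  refine hx1 ?_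
  rw [← Subgroup.mem_bot (G := G), ← h, mem_meet]
  exact ⟨hx, smul_eq_of_commute hu.1 h1 hc⟩

/-- The normalizing elements of the other block are the elements commuting with one of ours. -/
theorem meet_eq_cent (hne : S ≠ T) {w : G} (hw : w ∈ meet S T) (h1 : w ≠ 1) :
    meet T S = T.ker ⊓ centralizer ({w} : Set G) := by
  refine le_antisymm ?_ ?_
  · intro u hu
    exact ⟨(mem_meet.1 hu).1, mem_centralizer_singleton_iff.2 (commute_meet hne hw hu).symm⟩
  · intro u hu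
    exact mem_meet.2 ⟨hu.1, smul_eq_of_commute (mem_meet.1 hw).1 h1 (mem_centralizer_singleton_iff.1 hu.2)⟩

theorem card_meet_four (hne : S ≠ T) (h : meet S T ≠ ⊥) : Nat.card (meet T S) = 4 := by
  obtain ⟨⟨w, hw⟩, hw1'⟩ := Subgroup.ne_bot_iff_exists_ne_one.1 h
  have hw1 : w ≠ 1 := fun e => hw1' (Subtype.ext e)
  have hwT := (mem_meet.1 hw).2
  have hwS := (mem_meet.1 hw).1
  obtain ⟨x, hx, hx1, hc⟩ := exists_fixed (mul_self hwS) hwT
  rw [meet_eq_cent hne hw hw1, ← ker_eq_E hx hx1]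
  refine K.fix_card x w (two hx hx1) hc.symm (fun h' => ?_) ?_
  · rw [ker_eq_E hx hx1] at h'
    exact not_mem_other hne hwS hw1 h'
  · rw [ker_eq_E hx hx1, mul_self hwS]; exact one_mem _

theorem adj_symm (h : Adj Bk.ker S T) : Adj Bk.ker T S := ⟨h.1.symm, meet_eq_bot_of h.1 h.2⟩

theorem not_bot (hne : T ≠ S) (hn : ¬ Adj Bk.ker S T) : meet S T ≠ ⊥ := fun h => hn ⟨hne.symm, h⟩

theorem card_non (hne : T ≠ S) (hn : ¬ Adj Bk.ker S T) : Nat.card (meet S T) = 4 :=
  card_meet_four hne (fun h => not_bot hne hn (meet_eq_bot_of hne h))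

theorem not_bot' (hne : T ≠ S) (hn : ¬ Adj Bk.ker S T) : meet T S ≠ ⊥ :=
  fun h => not_bot hne hn (meet_eq_bot_of hne h)

/-- The blocks through which an element of `S` passes outside `S`. -/
theorem outer_data {y t : G} (hy : y ∈ S.ker) (hy1 : y ≠ 1) (ht : orderOf t = 2) (hc : Commute t y)
    (htS : t ∉ S.ker) : K.bk ht ≠ S ∧ y ∈ meet S (K.bk ht) ∧ t ∈ meet (K.bk ht) S := by
  have ht1 := ne_one_of_two ht
  refine ⟨fun e => htS (e ▸ mem_bk ht), mem_meet.2 ⟨hy, ?_⟩, mem_meet.2 ⟨mem_bk ht, ?_⟩⟩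
  · exact smul_eq_of_commute (mem_bk ht) ht1 hc.symm
  · exact smul_eq_of_commute hy hy1 hc

theorem card_through {y : G} (hy : y ∈ S.ker) (hy1 : y ≠ 1) :
    Nat.card {T : K.Bk // T ≠ S ∧ y • T = T} = 28 := by
  classical
  haveI := Fintype.ofFinite {T : K.Bk // T ≠ S ∧ y • T = T}
  have e : (Σ T : {T : K.Bk // T ≠ S ∧ y • T = T}, {u : G // u ∈ meet T.1 S ∧ u ≠ 1}) ≃
      {t : G // orderOf t = 2 ∧ Commute t y ∧ t ∉ K.E y} := by
    refine Equiv.ofBijective (fun p => ⟨p.2.1, two (mem_meet.1 p.2.2.1).1 p.2.2.2,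
      (commute_meet p.1.2.1.symm (mem_meet.2 ⟨hy, p.1.2.2⟩) p.2.2.1).symm, fun h => ?_⟩) ⟨?_, ?_⟩
    · rw [ker_eq_E hy hy1] at h
      exact not_mem_other p.1.2.1.symm h p.2.2.2 (mem_meet.1 p.2.2.1).1
    · rintro ⟨⟨T, hT⟩, u, hu, hu1⟩ ⟨⟨T', hT'⟩, u', hu', hu1'⟩ he
      have h : u = u' := congrArg Subtype.val he
      subst h
      obtain rfl := eq_of_share (mem_meet.1 hu).1 (mem_meet.1 hu').1 hu1
      rfl
    · rintro ⟨t, ht, hc, htS⟩
      rw [ker_eq_E hy hy1] at htS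
      obtain ⟨h1, h2, h3⟩ := outer_data hy hy1 ht hc htS
      exact ⟨⟨⟨K.bk ht, h1, (mem_meet.1 h2).2⟩, t, h3, ne_one_of_two ht⟩, rfl⟩
  have h := Nat.card_congr e
  rw [Nat.card_sigma, K.outer_card y (two hy hy1)] at h
  have h3 : ∀ T : {T : K.Bk // T ≠ S ∧ y • T = T}, Nat.card {u : G // u ∈ meet T.1 S ∧ u ≠ 1} = 3 := by
    intro T
    rw [card_nonone, card_meet_four T.2.1.symm fun h => hy1 (Subgroup.mem_bot.1 (h ▸ mem_meet.2 ⟨hy, T.2.2⟩))]
  simp only [h3, Finset.sum_const, Finset.card_univ, smul_eq_mul] at h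
  rw [Nat.card_eq_fintype_card]
  omega

theorem card_non_adj (S : K.Bk) : Nat.card {T : K.Bk // T ≠ S ∧ ¬ Adj Bk.ker S T} = 140 := by
  classical
  haveI := Fintype.ofFinite {T : K.Bk // T ≠ S ∧ ¬ Adj Bk.ker S T}
  haveI := Fintype.ofFinite {y : G // y ∈ S.ker ∧ y ≠ 1}
  have e : (Σ y : {y : G // y ∈ S.ker ∧ y ≠ 1}, {T : K.Bk // T ≠ S ∧ y.1 • T = T}) ≃
      (Σ T : {T : K.Bk // T ≠ S ∧ ¬ Adj Bk.ker S T}, {y : G // y ∈ meet S T.1 ∧ y ≠ 1}) :=
    { toFun := fun p => ⟨⟨p.2.1, p.2.2.1, fun hA => p.1.2.2 (Subgroup.mem_bot.1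
          (hA.2 ▸ (mem_meet.2 ⟨p.1.2.1, p.2.2.2⟩ : p.1.1 ∈ meet S p.2.1)))⟩,
          p.1.1, mem_meet.2 ⟨p.1.2.1, p.2.2.2⟩, p.1.2.2⟩
      invFun := fun p => ⟨⟨p.2.1, (mem_meet.1 p.2.2.1).1, p.2.2.2⟩, p.1.1, p.1.2.1, (mem_meet.1 p.2.2.1).2⟩
      left_inv := fun p => rfl
      right_inv := fun p => rfl }
  have h := Nat.card_congr e
  rw [Nat.card_sigma, Nat.card_sigma] at h
  have h1 : ∀ y : {y : G // y ∈ S.ker ∧ y ≠ 1}, Nat.card {T : K.Bk // T ≠ S ∧ y.1 • T = T} = 28 :=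
    fun y => card_through y.2.1 y.2.2
  have h3 : ∀ T : {T : K.Bk // T ≠ S ∧ ¬ Adj Bk.ker S T},
      Nat.card {y : G // y ∈ meet S T.1 ∧ y ≠ 1} = 3 := fun T => by rw [card_nonone, card_non T.2.1 T.2.2]
  rw [Finset.sum_congr rfl (fun y _ => h1 y), Finset.sum_congr rfl (fun T _ => h3 T),
    Finset.sum_const, Finset.sum_const, Finset.card_univ, Finset.card_univ, smul_eq_mul, smul_eq_mul,
    ← Nat.card_eq_fintype_card, ← Nat.card_eq_fintype_card, card_nonone, card_ker] at h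
  omega

theorem card_adj (S : K.Bk) : Nat.card {T : K.Bk // Adj Bk.ker S T} = 112 := by
  classical
  haveI := Fintype.ofFinite K.Bk
  have h := card_non_adj S
  have hX := card_bk K
  rw [Nat.card_eq_fintype_card] at hX
  rw [Nat.card_eq_fintype_card, Fintype.card_subtype] at h ⊢
  have h1 := Finset.card_filter_add_card_filter_not (s := (Finset.univ : Finset K.Bk).erase S)
    (fun T => Adj Bk.ker S T)
  rw [Finset.card_erase_of_mem (Finset.mem_univ S), Finset.card_univ, hX] at h1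
  have h2 : ((Finset.univ : Finset K.Bk).erase S).filter (fun T => Adj Bk.ker S T) =
      Finset.univ.filter fun T => Adj Bk.ker S T := by
    ext T
    simp only [Finset.mem_filter, Finset.mem_erase, Finset.mem_univ, and_true, true_and]
    exact ⟨fun h => h.2, fun h => ⟨h.1.symm, h⟩⟩
  have h3 : ((Finset.univ : Finset K.Bk).erase S).filter (fun T => ¬ Adj Bk.ker S T) =
      Finset.univ.filter fun T => T ≠ S ∧ ¬ Adj Bk.ker S T := by
    ext T
    simp
  rw [h2, h3, h] at h1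
  omega

theorem smul_meet (g : G) (hgS : g • S = S) {y : G} (hy : y ∈ meet S T) :
    g * y * g⁻¹ ∈ meet S (g • T) := by
  rw [mem_meet] at hy ⊢
  refine ⟨conj_mem_of_smul hgS hy.1, ?_⟩
  rw [mul_smul, mul_smul, inv_smul_smul, hy.2]

theorem adj_smul {g : G} (hgS : g • S = S) (h : Adj Bk.ker S T) : Adj Bk.ker S (g • T) := by
  have hgS' : g⁻¹ • S = S := inv_smul_eq_iff.2 hgS.symm
  refine ⟨fun e => h.1 ?_, ?_⟩
  · rw [← inv_smul_smul g T, ← e, hgS']
  · change meet S (g • T) = ⊥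
    rw [eq_bot_iff]
    intro y hy
    have := smul_meet g⁻¹ hgS' hy
    rw [inv_smul_smul] at this
    have h2 : g⁻¹ * y * g⁻¹⁻¹ ∈ (⊥ : Subgroup G) := h.2 ▸ this
    rw [Subgroup.mem_bot] at h2 ⊢
    exact conj_eq_one_iff.1 h2

/-- The stabiliser of a block is transitive on the blocks meeting it in a group of order four. -/
theorem trans_non {T' : K.Bk} (hne : T ≠ S) (hn : ¬ Adj Bk.ker S T) (hne' : T' ≠ S)
    (hn' : ¬ Adj Bk.ker S T') : ∃ g : G, g • S = S ∧ g • T = T' := by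
  obtain ⟨⟨y, hy⟩, hy1'⟩ := Subgroup.ne_bot_iff_exists_ne_one.1 (not_bot hne hn)
  obtain ⟨⟨y', hy'⟩, hy1''⟩ := Subgroup.ne_bot_iff_exists_ne_one.1 (not_bot hne' hn')
  have hy1 : y ≠ 1 := fun e => hy1' (Subtype.ext e)
  have hy'1 : y' ≠ 1 := fun e => hy1'' (Subtype.ext e)
  obtain ⟨g, hgS, hg⟩ := exists_conj (mem_meet.1 hy).1 hy1 (mem_meet.1 hy').1 hy'1
  obtain ⟨⟨u, hu⟩, hu1'⟩ := Subgroup.ne_bot_iff_exists_ne_one.1 (not_bot' hne hn)
  obtain ⟨⟨u', hu'⟩, hu1''⟩ := Subgroup.ne_bot_iff_exists_ne_one.1 (not_bot' hne' hn')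
  have hu1 : u ≠ 1 := fun e => hu1' (Subtype.ext e)
  have hu'1 : u' ≠ 1 := fun e => hu1'' (Subtype.ext e)
  have hc : Commute (g * u * g⁻¹) y' := by
    rw [← hg]
    simpa using (commute_meet hne.symm hy hu).symm.map (MulAut.conj g).toMonoidHom
  have hc' : Commute u' y' := (commute_meet hne'.symm hy' hu').symm
  have hyS := (mem_meet.1 hy').1
  have hnot : ∀ {v : G} {V : K.Bk}, V ≠ S → v ∈ V.ker → v ≠ 1 → v ∉ K.E y' := fun hV hv h1 h => by
    rw [ker_eq_E hyS hy'1] at h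
    exact not_mem_other hV hv h1 h
  have hguT : g * u * g⁻¹ ∈ (g • T).ker := conj_mem g (mem_meet.1 hu).1
  have hgne : g • T ≠ S := fun e => hne (by rw [← inv_smul_smul g T, e, inv_smul_eq_iff.2 hgS.symm])
  have hgu1 : g * u * g⁻¹ ≠ 1 := fun e => hu1 (conj_eq_one_iff.1 e)
  obtain ⟨k, hk, hk'⟩ := K.outer_conj y' (g * u * g⁻¹) u' (two hyS hy'1)
    (two hguT hgu1) (two (mem_meet.1 hu').1 hu'1) hc hc'
    (hnot hgne hguT hgu1) (hnot hne' (mem_meet.1 hu').1 hu'1)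
  refine ⟨k * g, ?_, ?_⟩
  · rw [mul_smul, hgS]; exact smul_eq_of_commute hyS hy'1 hk
  · rw [mul_smul]
    exact eq_of_share (hk' ▸ conj_mem k hguT) (mem_meet.1 hu').1 hu'1

end Kern

end CfsgLib.M23Nse
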