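import Cfsg.Agent.M23Nse.LocalDef
import Cfsg.Agent.M23Nse.Iface
import Mathlib.GroupTheory.Sylow
import Mathlib.GroupTheory.GroupAction.Quotient
import Mathlib.Tactic.Group
import Mathlib.Tactic.NormNum.Prime

/-!
# The 253 groups of order sixteen

The conjugates of the group attached to an involution, as a set with an action of the group.
-/

set_option autoImplicit false
set_option linter.style.haveILetI false
set_option linter.unusedSectionVars false

namespace CfsgLib.M23Nse

open Subgroup MulAction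

universe u

variable {G : Type u} [Group G] [Finite G]

namespace Kern

/-- The groups attached to the involutions. -/
def Bk (K : Kern G) : Type u := {S : Subgroup G // ∃ z : G, orderOf z = 2 ∧ K.E z = S}

variable {K : Kern G}

/-- The group itself. -/
def Bk.ker (S : K.Bk) : Subgroup G := S.1

theorem Bk.ext {S T : K.Bk} (h : S.ker = T.ker) : S = T := Subtype.ext h

instance : Finite K.Bk := Subtype.finite

theorem conj_two {z : G} (hz : orderOf z = 2) (g : G) : orderOf (g * z * g⁻¹) = 2 := by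
  rw [← MulAut.conj_apply, MulEquiv.orderOf_eq, hz]

instance : SMul G K.Bk :=
  ⟨fun g S => ⟨S.1.map (MulAut.conj g).toMonoidHom, by
    obtain ⟨z, hz, hS⟩ := S.2
    exact ⟨g * z * g⁻¹, conj_two hz g, by rw [K.conj g z hz, hS]⟩⟩⟩

theorem ker_smul_eq (g : G) (S : K.Bk) : (g • S).ker = S.ker.map (MulAut.conj g).toMonoidHom := rfl

theorem mem_ker_smul (g : G) (S : K.Bk) (k : G) : k ∈ (g • S).ker ↔ g⁻¹ * k * g ∈ S.ker := by
  rw [ker_smul_eq, Subgroup.mem_map]
  constructor
  · rintro ⟨y, hy, rfl⟩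
    rwa [MulEquiv.coe_toMonoidHom, MulAut.conj_apply, show g⁻¹ * (g * y * g⁻¹) * g = y by group]
  · intro h
    exact ⟨_, h, by rw [MulEquiv.coe_toMonoidHom, MulAut.conj_apply]; group⟩

instance : MulAction G K.Bk where
  one_smul S := Bk.ext (Subgroup.ext fun k => by rw [mem_ker_smul]; simp)
  mul_smul g h S := Bk.ext (Subgroup.ext fun k => by
    rw [mem_ker_smul, mem_ker_smul, mem_ker_smul, show h⁻¹ * (g⁻¹ * k * g) * h = (g * h)⁻¹ * k * (g * h) by group])

theorem conj_mem (g : G) {S : K.Bk} {y : G} (hy : y ∈ S.ker) : g * y * g⁻¹ ∈ (g • S).ker := by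
  rw [mem_ker_smul, show g⁻¹ * (g * y * g⁻¹) * g = y by group]; exact hy

theorem exists_gen (S : K.Bk) : ∃ z : G, orderOf z = 2 ∧ K.E z = S.ker := S.2

theorem card_ker (S : K.Bk) : Nat.card S.ker = 16 := by
  obtain ⟨z, hz, hS⟩ := exists_gen S
  rw [← hS, K.card_E z hz]

theorem two {S : K.Bk} {y : G} (hy : y ∈ S.ker) (h1 : y ≠ 1) : orderOf y = 2 := by
  obtain ⟨z, hz, hS⟩ := exists_gen S
  exact orderOf_eq_prime (by rw [pow_two]; exact K.sq z y hz (hS ▸ hy)) h1

theorem mul_self {S : K.Bk} {y : G} (hy : y ∈ S.ker) : y * y = 1 := by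
  obtain ⟨z, hz, hS⟩ := exists_gen S
  exact K.sq z y hz (hS ▸ hy)

theorem comm {S : K.Bk} {x y : G} (hx : x ∈ S.ker) (hy : y ∈ S.ker) : Commute x y := by
  have hinv : ∀ {w : G}, w ∈ S.ker → w⁻¹ = w := fun hw => inv_eq_of_mul_eq_one_right (mul_self hw)
  have h := hinv (mul_mem hx hy)
  rw [mul_inv_rev, hinv hx, hinv hy] at h
  exact h.symm

theorem ker_eq_E {S : K.Bk} {y : G} (hy : y ∈ S.ker) (h1 : y ≠ 1) : K.E y = S.ker := by
  obtain ⟨z, hz, hS⟩ := exists_gen S
  rw [← hS]
  exact K.eq_of_mem z y hz (hS ▸ hy) h1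

/-- The group attached to an involution, as a block. -/
def bk (K : Kern G) {z : G} (hz : orderOf z = 2) : K.Bk := ⟨K.E z, z, hz, rfl⟩

theorem mem_bk {z : G} (hz : orderOf z = 2) : z ∈ (K.bk hz).ker := K.mem z hz

theorem eq_of_share {S T : K.Bk} {y : G} (hS : y ∈ S.ker) (hT : y ∈ T.ker) (h1 : y ≠ 1) : S = T :=
  Bk.ext (by rw [← ker_eq_E hS h1, ker_eq_E hT h1])

theorem ne_one_of_two {z : G} (hz : orderOf z = 2) : z ≠ 1 := fun h => by
  rw [h, orderOf_one] at hz; norm_num at hz

theorem smul_eq_of_conj {S : K.Bk} {y : G} (hy : y ∈ S.ker) (h1 : y ≠ 1) {g : G}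
    (h : g * y * g⁻¹ ∈ S.ker) : g • S = S :=
  eq_of_share (conj_mem g hy) h (fun e => h1 (conj_eq_one_iff.1 e))

theorem smul_eq_of_commute {S : K.Bk} {y : G} (hy : y ∈ S.ker) (h1 : y ≠ 1) {g : G}
    (h : Commute g y) : g • S = S :=
  smul_eq_of_conj hy h1 (by rw [h.eq, mul_inv_cancel_right]; exact hy)

theorem ker_le_stabilizer (S : K.Bk) : S.ker ≤ stabilizer G S := by
  intro k hk
  rw [mem_stabilizer_iff]
  by_cases h1 : k = 1
  · rw [h1, one_smul]
  exact smul_eq_of_commute hk h1 (Commute.refl k)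

theorem conj_mem_of_smul {S : K.Bk} {g y : G} (hg : g • S = S) (hy : y ∈ S.ker) : g * y * g⁻¹ ∈ S.ker := by
  have := conj_mem g hy
  rwa [hg] at this

theorem smul_eq_iff {S : K.Bk} {g : G} :
    g • S = S ↔ ∀ y ∈ S.ker, g * y * g⁻¹ ∈ S.ker := by
  refine ⟨fun h y hy => conj_mem_of_smul h hy, fun h => ?_⟩
  obtain ⟨z, hz, hS⟩ := exists_gen S
  have hzS : z ∈ S.ker := hS ▸ K.mem z hz
  exact smul_eq_of_conj hzS (ne_one_of_two hz) (h z hzS)

instance : IsPretransitive G K.Bk := ⟨fun S T => by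
  obtain ⟨z, hz, hS⟩ := exists_gen S
  obtain ⟨w, hw, hT⟩ := exists_gen T
  obtain ⟨g, hg⟩ := isConj_iff.1 (K.loc.inv_conj z w hz hw)
  refine ⟨g, eq_of_share (y := w) ?_ (hT ▸ K.mem w hw) (ne_one_of_two hw)⟩
  rw [← hg]
  exact conj_mem g (hS ▸ K.mem z hz)⟩

theorem card_invols (K : Kern G) : Nat.card {z : G // orderOf z = 2} = 3795 := by
  haveI : Fact (Nat.Prime 2) := ⟨Nat.prime_two⟩
  obtain ⟨z, hz⟩ := exists_prime_orderOf_dvd_card' (G := G) 2 (by rw [K.loc.card]; norm_num)
  have h1 : Nat.card {w : G // orderOf w = 2} = Nat.card (ConjClasses.mk z).carrier := by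
    refine Nat.card_congr (Equiv.subtypeEquivRight fun w => ?_)
    rw [ConjClasses.mem_carrier_iff_mk_eq, ConjClasses.mk_eq_mk_iff_isConj]
    refine ⟨fun hw => K.loc.inv_conj w z hw hz, fun hw => ?_⟩
    obtain ⟨g, rfl⟩ := isConj_iff.1 hw.symm
    exact conj_two hz g
  have h3 : Nat.card (ConjClasses.mk z).carrier = Nat.card G / 2688 := by
    rw [Nat.card_congr (Equiv.setCongr (ConjAct.orbit_eq_carrier_conjClasses z).symm)]
    have h2 := Nat.card_congr (orbitEquivQuotientStabilizer (ConjAct G) z)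
    rw [h2, ← Subgroup.index_eq_card]
    have hst : stabilizer (ConjAct G) z = centralizer {ConjAct.toConjAct z} := by
      rw [ConjAct.stabilizer_eq_centralizer]
    rw [hst]
    have hc : Nat.card (centralizer {ConjAct.toConjAct z}) = 2688 := K.loc.inv_card z hz
    have := (centralizer {ConjAct.toConjAct z}).card_mul_index
    rw [hc, show Nat.card (ConjAct G) = Nat.card G from rfl] at this
    omega
  rw [h1, h3, K.loc.card]

/-- Every nontrivial element of a block together with the block. -/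
noncomputable def pairEquiv (K : Kern G) :
    (Σ S : K.Bk, {y : G // y ∈ S.ker ∧ y ≠ 1}) ≃ {z : G // orderOf z = 2} :=
  Equiv.ofBijective (fun p => ⟨p.2.1, two p.2.2.1 p.2.2.2⟩) (by
    refine ⟨?_, fun z => ⟨⟨K.bk z.2, z.1, mem_bk z.2, ne_one_of_two z.2⟩, rfl⟩⟩
    rintro ⟨S, y, hy, h1⟩ ⟨T, y', hy', h1'⟩ he
    have h : y = y' := congrArg Subtype.val he
    subst h
    obtain rfl := eq_of_share hy hy' h1
    rfl)

theorem card_nonone (H : Subgroup G) : Nat.card {y : G // y ∈ H ∧ y ≠ 1} = Nat.card H - 1 := by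
  classical
  haveI := Fintype.ofFinite G
  rw [Nat.card_eq_fintype_card, Fintype.card_subtype, Nat.card_eq_fintype_card, Fintype.card_subtype,
    show (Finset.univ.filter fun y => y ∈ H ∧ y ≠ 1) = (Finset.univ.filter fun y => y ∈ H).erase 1 by
      ext; simp [and_comm],
    Finset.card_erase_of_mem (by simp)]

theorem card_bk (K : Kern G) : Nat.card K.Bk = 253 := by
  haveI := Fintype.ofFinite K.Bk
  have h := Nat.card_congr (pairEquiv K)
  rw [Nat.card_sigma, card_invols K] at h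
  simp only [card_nonone, card_ker, Finset.sum_const, Finset.card_univ, smul_eq_mul] at h
  rw [Nat.card_eq_fintype_card]
  omega

theorem card_stab (S : K.Bk) : Nat.card (stabilizer G S) = 40320 := by
  have h := (stabilizer G S).card_mul_index
  rw [index_stabilizer_of_transitive, card_bk K, K.loc.card] at h
  omega

/-- The stabiliser of a block is transitive on its nontrivial elements. -/
theorem exists_conj {S : K.Bk} {y y' : G} (hy : y ∈ S.ker) (h1 : y ≠ 1) (hy' : y' ∈ S.ker) (h1' : y' ≠ 1) :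
    ∃ g : G, g • S = S ∧ g * y * g⁻¹ = y' := by
  obtain ⟨g, hg⟩ := isConj_iff.1 (K.loc.inv_conj y y' (two hy h1) (two hy' h1'))
  exact ⟨g, smul_eq_of_conj hy h1 (hg ▸ hy'), hg⟩

theorem centralizer_le {S : K.Bk} {y : G} (hy : y ∈ S.ker) (h1 : y ≠ 1) :
    centralizer ({y} : Set G) ≤ stabilizer G S := fun g hg => by
  rw [mem_stabilizer_iff]
  exact smul_eq_of_commute hy h1 (mem_centralizer_singleton_iff.1 hg)

/-- The elementwise stabiliser of a block is the block. -/
theorem mem_of_commute {S : K.Bk} {g : G} (h : ∀ y ∈ S.ker, Commute g y) : g ∈ S.ker := by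
  obtain ⟨z, hz, hS⟩ := exists_gen S
  rw [← hS]
  exact K.self_cent z g hz fun y hy => h y (hS ▸ hy)

end Kern

end CfsgLib.M23Nse
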