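import Cfsg.Agent.M23Nse.NormE.Orbits

/-!
# The action of the stabiliser of two adjacent blocks on the other six orbits

An element of order five fixes two of the seven orbits and moves the other five; if the
stabiliser of two adjacent blocks fixed one of the six, the seven orbits would fall into pairs.
-/

set_option autoImplicit false
set_option linter.style.haveILetI false
set_option linter.unusedSectionVars false

namespace CfsgLib.M23Nse

open Subgroup MulAction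
open scoped Pointwise

universe u

variable {G : Type u} [Group G] [Finite G]

namespace Kern

variable {K : Kern G} {S T T' : K.Bk}

instance (S : K.Bk) : IsPretransitive (stabilizer G S) (Orbs S) := ⟨orbs_trans⟩

theorem exists_five (h : Adj Bk.ker S T) : ∃ f : G, orderOf f = 5 ∧ f ∈ both S T := by
  haveI : Fact (Nat.Prime 5) := ⟨by norm_num⟩
  obtain ⟨f, hf⟩ := exists_prime_orderOf_dvd_card' (G := both S T) 5 (by rw [card_both_adj h]; norm_num)
  exact ⟨f, by rw [Subgroup.orderOf_coe, hf], f.2⟩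

theorem ker_fix_orb {k : G} (hk : k ∈ S.ker) (T : K.Bk) : k • orb S T = orb S T := by
  rw [smul_orb (ker_le_stabilizer S hk)]
  exact orb_eq_of_mem ⟨k, hk, rfl⟩

theorem smul_mkOrb_self {g : stabilizer G S} (h : Adj Bk.ker S T) (hg : (g : G) • T = T) :
    g • mkOrb h = mkOrb h := Subtype.ext (by
  show (g : G) • orb S T = orb S T
  rw [smul_orb g.2, hg])

/-- A 5-element fixing two adjacent blocks fixes exactly one of the other six orbits and is
transitive on the remaining five. -/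
theorem five_orbits (h : Adj Bk.ker S T) {f : G} (hf : orderOf f = 5) (hfS : f • S = S) (hfT : f • T = T) :
    ∃ O₁ : Orbs S, O₁ ≠ mkOrb h ∧ (⟨f, hfS⟩ : stabilizer G S) • O₁ = O₁ ∧
      (∀ O : Orbs S, (⟨f, hfS⟩ : stabilizer G S) • O = O → O = mkOrb h ∨ O = O₁) ∧
      ∀ O O' : Orbs S, O ≠ mkOrb h → O ≠ O₁ → O' ≠ mkOrb h → O' ≠ O₁ →
        ∃ i : ℕ, (⟨f, hfS⟩ : stabilizer G S) ^ i • O = O' := by
  classical
  haveI : Fact (Nat.Prime 5) := ⟨by norm_num⟩
  haveI := Fintype.ofFinite (Orbs S)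
  set g : stabilizer G S := ⟨f, hfS⟩
  set σ : Equiv.Perm (Orbs S) := MulAction.toPermHom (stabilizer G S) (Orbs S) g
  have hσ5 : σ ^ 5 = 1 := by
    rw [← map_pow, show g ^ 5 = 1 from Subtype.ext (by
      rw [SubgroupClass.coe_pow]; exact hf ▸ pow_orderOf_eq_one f), map_one]
  have hsel : ∀ O : {O : Orbs S // g • O = O}, ∃ V : K.Bk, V ∈ O.1.1 ∧ f • V = V ∧ V ≠ S := by
    rintro ⟨⟨O, U, hU, rfl⟩, hO⟩
    obtain ⟨V, hV, hfV⟩ := exists_fixed_in_orb (q := 5) (by norm_num) (hf ▸ pow_orderOf_eq_one f) hU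
      (congrArg Subtype.val hO)
    exact ⟨V, hV, hfV, (adj_of_mem_orb hU hV).1.symm⟩
  choose v hv using hsel
  have hle : Nat.card {O : Orbs S // g • O = O} ≤ Nat.card {V : K.Bk // f • V = V ∧ V ≠ S} := by
    refine Nat.card_le_card_of_injective (fun O => ⟨v O, (hv O).2⟩) fun O O' he => ?_
    obtain ⟨⟨P, U, hU, hP⟩, hO⟩ := O
    obtain ⟨⟨P', U', hU', hP'⟩, hO'⟩ := O'
    subst hP hP'
    have h1 := (hv ⟨⟨orb S U, U, hU, rfl⟩, hO⟩).1
    have h2 := (hv ⟨⟨orb S U', U', hU', rfl⟩, hO'⟩).1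
    have he' := congrArg Subtype.val he
    dsimp only at he' h1 h2
    rw [he'] at h1
    exact Subtype.ext (Subtype.ext ((orb_eq_of_mem h1).symm.trans (orb_eq_of_mem h2)))
  have h2 : Nat.card {V : K.Bk // f • V = V ∧ V ≠ S} = 2 := by
    haveI := Fintype.ofFinite K.Bk
    have h3 := card_five_fixed hf hfS
    rw [Nat.card_eq_fintype_card, Fintype.card_subtype] at h3 ⊢
    rw [show (Finset.univ.filter fun V : K.Bk => f • V = V ∧ V ≠ S) =
        (Finset.univ.filter fun V : K.Bk => f • V = V).erase S by ext; simp [and_comm],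
      Finset.card_erase_of_mem (by simp [hfS]), h3]
  have hmod := fixed_mod (q := 5) σ hσ5
  rw [card_orbs] at hmod
  have hfix : Nat.card {O : Orbs S // g • O = O} = 2 := by
    have : Nat.card {O : Orbs S // g • O = O} % 5 = 7 % 5 := hmod
    omega
  have h0 : g • mkOrb h = mkOrb h := smul_mkOrb_self h hfT
  obtain ⟨a, b, hab, hsurj⟩ := Nat.card_eq_two_iff.1 hfix
  obtain ⟨O₁, hne, hO₁, huniq⟩ : ∃ O₁, O₁ ≠ mkOrb h ∧ g • O₁ = O₁ ∧
      ∀ O : Orbs S, g • O = O → O = mkOrb h ∨ O = O₁ := by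
    have hmem : ∀ c : {O : Orbs S // g • O = O}, c = a ∨ c = b := fun c => by
      have : c ∈ ({a, b} : Set _) := hsurj ▸ Set.mem_univ c
      simpa using this
    rcases hmem ⟨_, h0⟩ with e | e
    · refine ⟨b.1, fun e' => hab (e.symm.trans (Subtype.ext e'.symm)), b.2, fun O hO => ?_⟩
      rcases hmem ⟨O, hO⟩ with e'' | e''
      · exact Or.inl (congrArg Subtype.val (e''.trans e.symm))
      · exact Or.inr (congrArg Subtype.val e'')
    · refine ⟨a.1, fun e' => hab ((Subtype.ext e').trans e), a.2, fun O hO => ?_⟩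
      rcases hmem ⟨O, hO⟩ with e'' | e''
      · exact Or.inr (congrArg Subtype.val e'')
      · exact Or.inl (congrArg Subtype.val (e''.trans e.symm))
  refine ⟨O₁, hne, hO₁, huniq, fun O O' hO hO₁' hO' hO₁'' => ?_⟩
  have hmove : ∀ P : Orbs S, P ≠ mkOrb h → P ≠ O₁ → σ P ≠ P := fun P hP hP' he =>
    (huniq P he).elim hP hP'
  have hord : orderOf σ = 5 := orderOf_eq_prime hσ5 fun e => hmove O hO hO₁' (Equiv.congr_fun e O)
  have hcyc : σ.IsCycle := by
    refine Equiv.Perm.isCycle_of_prime_order (by rw [hord]; norm_num) ?_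
    refine lt_of_le_of_lt (Finset.card_le_univ _) ?_
    rw [hord, ← Nat.card_eq_fintype_card, card_orbs]
    norm_num
  obtain ⟨i, hi⟩ := hcyc.exists_pow_eq (hmove O hO hO₁') (hmove O' hO' hO₁'')
  exact ⟨i, by rw [← map_pow] at hi; exact hi⟩

theorem stab_mkOrb_le (h : Adj Bk.ker S T) {O : Orbs S}
    (hH : ∀ g : stabilizer G S, (g : G) • T = T → g • O = O) :
    stabilizer (stabilizer G S) (mkOrb h) ≤ stabilizer (stabilizer G S) O := by
  intro g hg
  have h1 : (g : G) • T ∈ orb S T := by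
    rw [← show (g : G) • orb S T = orb S T from congrArg Subtype.val hg, smul_orb g.2]
    exact mem_orb_self
  obtain ⟨k, hk, he⟩ := h1
  set k' : stabilizer G S := ⟨k, ker_le_stabilizer S hk⟩
  have h2 : (k'⁻¹ * g) • O = O := hH _ (by
    show (k⁻¹ * (g : G)) • T = T
    rw [mul_smul, ← he, inv_smul_smul])
  have hk' : k' • O = O := Subtype.ext (by
    obtain ⟨U, hU, hO⟩ := O.2
    show k • O.1 = O.1
    rw [← hO, ker_fix_orb hk])
  rw [mem_stabilizer_iff]
  calc g • O = k' • ((k'⁻¹ * g) • O) := by rw [mul_smul, smul_inv_smul]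
    _ = O := by rw [h2, hk']

/-- The stabiliser of two adjacent blocks is transitive on the other six orbits. -/
theorem six_trans (h : Adj Bk.ker S T) {O O' : Orbs S} (hO : O ≠ mkOrb h) (hO' : O' ≠ mkOrb h) :
    ∃ g : stabilizer G S, (g : G) • T = T ∧ g • O = O' := by
  classical
  obtain ⟨f, hf, hfS, hfT⟩ := exists_five h
  obtain ⟨O₁, hne, hO₁, huniq, hcyc⟩ := five_orbits h hf hfS hfT
  set fs : stabilizer G S := ⟨f, hfS⟩
  by_cases hmove : ∃ a : stabilizer G S, (a : G) • T = T ∧ a • O₁ ≠ O₁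
  · obtain ⟨a, haT, ha⟩ := hmove
    have ha0 : a • O₁ ≠ mkOrb h := fun e => hne (by
      rw [← smul_mkOrb_self h (g := a) haT] at e
      exact MulAction.injective a e)
    -- everything is reached from the fixed orbit
    have hreach : ∀ P : Orbs S, P ≠ mkOrb h → ∃ g : stabilizer G S, (g : G) • T = T ∧ g • O₁ = P := by
      intro P hP
      by_cases hP1 : P = O₁
      · exact ⟨1, one_smul G T, by rw [one_smul, hP1]⟩
      obtain ⟨i, hi⟩ := hcyc (a • O₁) P ha0 ha hP hP1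
      refine ⟨fs ^ i * a, ?_, by rw [mul_smul, hi]⟩
      show (f ^ i * (a : G)) • T = T
      rw [mul_smul, haT]
      exact MulAction.mem_stabilizer_iff.1 (pow_mem (show f ∈ stabilizer G T from hfT) i)
    obtain ⟨g, hg, hgO⟩ := hreach O hO
    obtain ⟨g', hg', hgO'⟩ := hreach O' hO'
    refine ⟨g' * g⁻¹, ?_, by rw [mul_smul, ← hgO, inv_smul_smul, hgO']⟩
    show ((g' : G) * (g : G)⁻¹) • T = T
    rw [mul_smul, inv_smul_eq_iff.2 hg.symm, hg']
  push Not at hmove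
  -- otherwise the orbits fall into pairs
  exfalso
  have key : ∀ P : Orbs S, ∃! Q : Orbs S, Q ≠ P ∧
      stabilizer (stabilizer G S) P ≤ stabilizer (stabilizer G S) Q := by
    intro P
    obtain ⟨g, rfl⟩ := orbs_trans (mkOrb h) P
    refine ⟨g • O₁, ⟨fun e => hne (MulAction.injective g e), ?_⟩, ?_⟩
    · rw [stabilizer_smul_eq_stabilizer_map_conj, stabilizer_smul_eq_stabilizer_map_conj]
      exact Subgroup.map_mono (stab_mkOrb_le h hmove)
    · rintro Q ⟨hQ, hQle⟩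
      have h1 : fs • g⁻¹ • Q = g⁻¹ • Q := by
        have h2 : g * fs * g⁻¹ ∈ stabilizer (stabilizer G S) Q := hQle (by
          rw [mem_stabilizer_iff, mul_smul, mul_smul, inv_smul_smul, smul_mkOrb_self h (g := fs) hfT])
        rw [mem_stabilizer_iff, mul_smul, mul_smul] at h2
        exact eq_inv_smul_iff.2 h2
      rcases huniq _ h1 with e | e
      · exact absurd (inv_smul_eq_iff.1 e) hQ
      · exact inv_smul_eq_iff.1 e
  choose p hp hp' using key
  have hinv : ∀ P, p (p P) = P := by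
    intro P
    refine (hp' (p P) P ⟨(hp P).1.symm, ?_⟩).symm
    have h1 : ∀ Q : Orbs S, Nat.card (stabilizer (stabilizer G S) Q) = 5760 := fun Q => by
      have h2 := (stabilizer (stabilizer G S) Q).card_mul_index
      rw [index_stabilizer_of_transitive, card_orbs, card_stab] at h2
      omega
    exact (eq_of_le_of_card_ge (hp P).2 (by rw [h1, h1])).ge
  let τ : Equiv.Perm (Orbs S) := Function.Involutive.toPerm p hinv
  haveI : Fact (Nat.Prime 2) := ⟨Nat.prime_two⟩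
  have h1 := fixed_mod (q := 2) τ (Equiv.ext fun P => by rw [pow_two]; exact hinv P)
  haveI : IsEmpty {c : Orbs S // τ c = c} := ⟨fun c => (hp c.1).1 c.2⟩
  rw [Nat.card_of_isEmpty, card_orbs] at h1
  norm_num at h1

theorem six {T₁ T₂ : K.Bk} (h : Adj Bk.ker S T) (h₁ : Adj Bk.ker S T₁) (h₂ : Adj Bk.ker S T₂)
    (hn₁ : ∀ k ∈ S.ker, k • T ≠ T₁) (hn₂ : ∀ k ∈ S.ker, k • T ≠ T₂) :
    ∃ g : G, g • S = S ∧ g • T = T ∧ ∃ k ∈ S.ker, g • T₁ = k • T₂ := by
  have hne : ∀ {V : K.Bk} (hV : Adj Bk.ker S V), (∀ k ∈ S.ker, k • T ≠ V) → mkOrb hV ≠ mkOrb h :=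
    fun hV hn e => by
      obtain ⟨k, hk, he⟩ := orb_eq_iff.1 (congrArg Subtype.val e)
      exact hn k hk he
  obtain ⟨g, hgT, hg⟩ := six_trans h (hne h₁ hn₁) (hne h₂ hn₂)
  have h1 : (g : G) • T₁ ∈ orb S T₂ := by
    rw [← show (g : G) • orb S T₁ = orb S T₂ from congrArg Subtype.val hg, smul_orb g.2]
    exact mem_orb_self
  obtain ⟨k, hk, he⟩ := h1
  exact ⟨g, g.2, hgT, k, hk, he.symm⟩

/-- The elements of the stabiliser that fix all seven orbits. -/
abbrev fixOrbs (S : K.Bk) : Subgroup (stabilizer G S) := (MulAction.toPermHom (stabilizer G S) (Orbs S)).ker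

theorem mem_fixOrbs {g : stabilizer G S} : g ∈ fixOrbs S ↔ ∀ O : Orbs S, g • O = O :=
  ⟨fun hg O => Equiv.congr_fun hg O, fun hg => Equiv.ext hg⟩

theorem fixOrbs_inf_centralizer {y : G} (hyS : y ∈ S.ker) (hy1 : y ≠ 1) :
    (fixOrbs S).map (stabilizer G S).subtype ⊓ centralizer ({y} : Set G) = S.ker := by
  haveI : Fact (Nat.Prime 7) := ⟨by norm_num⟩
  set N := stabilizer G S
  set R : Subgroup N := fixOrbs S
  have hmemR : ∀ {g : N}, g ∈ R ↔ ∀ O : Orbs S, g • O = O := mem_fixOrbs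
  have hmap : ∀ g : G, g ∈ R.map N.subtype ↔ ∃ hg : g • S = S, (⟨g, hg⟩ : N) ∈ R := fun g =>
    ⟨fun ⟨a, ha, e⟩ => e ▸ ⟨a.2, ha⟩, fun ⟨hg, ha⟩ => ⟨⟨g, hg⟩, ha, rfl⟩⟩
  have hy2 := two hyS hy1
  have hle : K.E y ≤ R.map N.subtype ⊓ centralizer ({y} : Set G) := by
    rw [ker_eq_E hyS hy1]
    refine le_inf (fun k hk => (hmap k).2 ⟨ker_le_stabilizer S hk, hmemR.2 fun O => ?_⟩)
      fun k hk => mem_centralizer_singleton_iff.2 (comm hk hyS)
    obtain ⟨U, hU, hO⟩ := O.2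
    exact Subtype.ext (by show k • O.1 = O.1; rw [← hO, ker_fix_orb hk])
  have hnorm : ∀ g k : G, Commute g y → k ∈ R.map N.subtype ⊓ centralizer ({y} : Set G) →
      g * k * g⁻¹ ∈ R.map N.subtype ⊓ centralizer ({y} : Set G) := by
    intro g k hg hk
    obtain ⟨hkS, hkR⟩ := (hmap k).1 hk.1
    have hgS : g • S = S := smul_eq_of_commute hyS hy1 hg
    have hc : (⟨g, hgS⟩ : N) * (⟨k, hkS⟩ : N) * (⟨g, hgS⟩ : N)⁻¹ ∈ R :=
      (inferInstance : R.Normal).conj_mem _ hkR _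
    have hk' : Commute k y := mem_centralizer_singleton_iff.1 hk.2
    exact mem_inf.2 ⟨mem_map.2 ⟨_, hc, rfl⟩,
      mem_centralizer_singleton_iff.2 ((hg.mul_left hk').mul_left hg.inv_left).eq⟩
  rcases K.quot y (R.map N.subtype ⊓ centralizer ({y} : Set G)) hy2 hle inf_le_right hnorm with e | e
  · rw [e, ker_eq_E hyS hy1]
  · exfalso
    obtain ⟨⟨w, hw⟩, hw7'⟩ := exists_prime_orderOf_dvd_card' (G := centralizer ({y} : Set G)) 7
      (by rw [K.loc.inv_card y hy2]; norm_num)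
    have hw7 : orderOf w = 7 := by rw [← hw7', Subgroup.orderOf_mk]
    have hwR : w ∈ R.map N.subtype := (e.ge hw).1
    obtain ⟨hwS, hwR⟩ := (hmap w).1 hwR
    obtain ⟨U, hU⟩ : ∃ U, Adj Bk.ker S U := by
      have hc := card_adj S
      obtain ⟨⟨U, hU⟩⟩ := (Nat.card_pos_iff.1 (show 0 < Nat.card {T : K.Bk // Adj Bk.ker S T} by omega)).1
      exact ⟨U, hU⟩
    obtain ⟨V, hV, hwV⟩ := exists_fixed_in_orb (q := 7) (by norm_num) (hw7 ▸ pow_orderOf_eq_one w) hU
      (congrArg Subtype.val (hmemR.1 hwR (mkOrb hU)))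
    exact (adj_of_mem_orb hU hV).1 (seven_fixed_unique hw7 hwS hwV)

theorem card_fixOrbs : Nat.card (fixOrbs S) ≤ 240 ∧ 16 ∣ Nat.card (fixOrbs S) := by
  classical
  set N := stabilizer G S
  set R : Subgroup N := fixOrbs S
  obtain ⟨y, hyS, hy1⟩ : ∃ y ∈ S.ker, y ≠ 1 := by
    haveI := Finite.one_lt_card_iff_nontrivial.1 (show 1 < Nat.card S.ker by rw [card_ker]; norm_num)
    obtain ⟨⟨y, hy⟩, hy1⟩ := exists_ne (1 : S.ker)
    exact ⟨y, hy, fun e => hy1 (Subtype.ext e)⟩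
  have hRy := fixOrbs_inf_centralizer hyS hy1
  let φ : R → {v : G // v ∈ S.ker ∧ v ≠ 1} := fun r =>
    ⟨(r : G) * y * (r : G)⁻¹, conj_mem_of_smul r.1.2 hyS, fun e => hy1 (conj_eq_one_iff.1 e)⟩
  have h16 : Nat.card (R.map N.subtype) = Nat.card R := card_map_of_injective N.subtype_injective
  refine ⟨?_, by rw [← h16, ← card_ker S]; exact card_dvd_of_le (hRy ▸ inf_le_left)⟩
  have hle : ∀ v, Nat.card {r : R // φ r = v} ≤ 16 := by
    intro v
    rcases isEmpty_or_nonempty {r : R // φ r = v} with he | ⟨⟨r₀, hr₀⟩⟩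
    · rw [Nat.card_of_isEmpty]; omega
    · rw [← card_ker S]
      refine Nat.card_le_card_of_injective (fun r => ⟨(r₀ : G)⁻¹ * (r.1 : G), ?_⟩) fun a b hab => ?_
      · refine hRy.le ⟨⟨(r₀.1)⁻¹ * r.1.1, mul_mem (inv_mem r₀.2) r.1.2, rfl⟩, mem_centralizer_singleton_iff.2 ?_⟩
        have h1 : (r.1 : G) * y * (r.1 : G)⁻¹ = (r₀ : G) * y * (r₀ : G)⁻¹ :=
          congrArg Subtype.val (r.2.trans hr₀.symm)
        calc (r₀ : G)⁻¹ * (r.1 : G) * y = (r₀ : G)⁻¹ * ((r.1 : G) * y * (r.1 : G)⁻¹) * (r.1 : G) := by group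
          _ = y * ((r₀ : G)⁻¹ * (r.1 : G)) := by rw [h1]; group
      · exact Subtype.ext (Subtype.ext (Subtype.ext (mul_left_cancel (congrArg Subtype.val hab))))
  haveI := Fintype.ofFinite {v : G // v ∈ S.ker ∧ v ≠ 1}
  calc Nat.card R = Nat.card (Σ v, {r : R // φ r = v}) := (Nat.card_congr (Equiv.sigmaFiberEquiv φ)).symm
    _ = ∑ v, Nat.card {r : R // φ r = v} := Nat.card_sigma
    _ ≤ ∑ _v : {v : G // v ∈ S.ker ∧ v ≠ 1}, 16 := Finset.sum_le_sum fun v _ => hle v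
    _ = 240 := by
      rw [Finset.sum_const, Finset.card_univ, ← Nat.card_eq_fintype_card, card_nonone, card_ker]
      rfl

/-- Only the kernel fixes all seven orbits. -/
theorem no_three_fixing {x : G} (hx : orderOf x = 3) (hxS : x • S = S)
    (hfix : ∀ O : Orbs S, (⟨x, hxS⟩ : stabilizer G S) • O = O) : False := by
  classical
  haveI : Fact (Nat.Prime 7) := ⟨by norm_num⟩
  haveI : Fact (Nat.Prime 3) := ⟨by norm_num⟩
  set N := stabilizer G S
  set R : Subgroup N := fixOrbs S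
  have hmemR : ∀ {g : N}, g ∈ R ↔ ∀ O : Orbs S, g • O = O := mem_fixOrbs
  have hR240 : Nat.card R ≤ 240 ∧ 16 ∣ Nat.card R := card_fixOrbs
  have hxR : (⟨x, hxS⟩ : N) ∈ R := hmemR.2 hfix
  have h3R : 3 ∣ Nat.card R := by
    have := Subgroup.orderOf_dvd_natCard R hxR
    rwa [← Subgroup.orderOf_coe, hx] at this
  obtain ⟨Q₀⟩ : Nonempty (Sylow 3 R) := inferInstance
  obtain ⟨k, hk⟩ := IsPGroup.iff_card.1 Q₀.isPGroup'
  have hdv : Nat.card (Sylow 3 R) * 3 ^ k ∣ Nat.card R := by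
    rw [← hk, ← (Q₀ : Subgroup R).card_mul_index, mul_comm]
    exact Nat.mul_dvd_mul_left _ (Sylow.card_dvd_index Q₀)
  have h3Q : 3 ∣ 3 ^ k := hk ▸ (Sylow.dvd_card_of_dvd_card Q₀ h3R)
  have hRG : Nat.card R ∣ 40320 := (card_subgroup_dvd_card R).trans (card_stab S).dvd
  have h7 : ¬ 7 ∣ Nat.card (Sylow 3 R) := by
    intro h7
    have hd : 7 * 3 ∣ Nat.card R := (Nat.mul_dvd_mul h7 h3Q).trans hdv
    have : 336 ∣ Nat.card R := Nat.Coprime.mul_dvd_of_dvd_of_dvd (show Nat.Coprime 21 16 by norm_num) hd hR240.2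
    have := Nat.le_of_dvd Nat.card_pos this
    omega
  obtain ⟨w, hw, hwS⟩ := exists_seven S
  haveI : R.Normal := inferInstance
  set φ := MulAut.conjNormal (H := R) (⟨w, hwS⟩ : N)
  have hφ : φ ^ 7 = 1 := by
    rw [← map_pow, show (⟨w, hwS⟩ : N) ^ 7 = 1 from Subtype.ext (by
      rw [SubgroupClass.coe_pow]; exact hw ▸ pow_orderOf_eq_one w), map_one]
  have hfixQ := fixed_mod (q := 7) (MulAction.toPermHom (MulAut R) (Sylow 3 R) φ) (by
    rw [← map_pow, hφ, map_one])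
  have hpos : 0 < Nat.card {Q : Sylow 3 R // MulAction.toPermHom (MulAut R) (Sylow 3 R) φ Q = Q} := by
    rcases Nat.eq_zero_or_pos (Nat.card {Q : Sylow 3 R // MulAction.toPermHom (MulAut R) (Sylow 3 R) φ Q = Q})
      with h0 | h0
    · rw [h0, Nat.zero_mod] at hfixQ; exact absurd (Nat.dvd_of_mod_eq_zero hfixQ.symm) h7
    · exact h0
  obtain ⟨⟨Q, hQ⟩⟩ := (Nat.card_pos_iff.1 hpos).1
  -- the image in the whole group
  set Q' : Subgroup G := ((Q : Subgroup R).map R.subtype).map N.subtype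
  have hQ' : Nat.card Q' = Nat.card (Q : Subgroup R) := by
    rw [card_map_of_injective N.subtype_injective, card_map_of_injective R.subtype_injective]
  have hnormQ : ∀ v ∈ Q', w * v * w⁻¹ ∈ Q' := by
    rintro _ ⟨_, ⟨q, hq, rfl⟩, rfl⟩
    have hmem : φ q ∈ (Q : Subgroup R) := by
      have h1 : φ • q ∈ (φ • Q : Sylow 3 R).toSubgroup := Subgroup.smul_mem_pointwise_smul q φ _ hq
      rwa [show φ • Q = Q from hQ] at h1
    exact ⟨_, ⟨φ q, hmem, rfl⟩, rfl⟩
  have hmod := cent_mod (q := 7) (hw ▸ pow_orderOf_eq_one w) Q' hnormQ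
  obtain ⟨j, hj⟩ := IsPGroup.iff_card.1 Q.isPGroup'
  have hj1 : 3 ∣ 3 ^ j := hj ▸ Sylow.dvd_card_of_dvd_card Q h3R
  have hj9 : 3 ^ j ∣ 9 := by
    have h1 : 3 ^ j ∣ 40320 := hj ▸ (card_subgroup_dvd_card (Q : Subgroup R)).trans hRG
    exact ((Nat.Coprime.pow_left j (show Nat.Coprime 3 4480 by norm_num))).dvd_of_dvd_mul_right
      (show 3 ^ j ∣ 9 * 4480 from h1)
  set A := Q' ⊓ centralizer ({w} : Set G)
  have hA1 : Nat.card A ∣ 3 ^ j := hj ▸ hQ' ▸ card_dvd_of_le inf_le_left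
  have hA14 : Nat.card A ∣ 14 := K.loc.seven w hw ▸ card_dvd_of_le inf_le_right
  have hA : Nat.card A = 1 := Nat.eq_one_of_dvd_coprimes
    (Nat.Coprime.pow_left j (show Nat.Coprime 3 14 by norm_num)) hA1 hA14
  rw [hA, hQ', hj] at hmod
  have hcases : 3 ^ j = 3 ∨ 3 ^ j = 9 := by
    obtain ⟨i, hi, he⟩ := (Nat.dvd_prime_pow (by norm_num : Nat.Prime 3)).1 (show 3 ^ j ∣ 3 ^ 2 from hj9)
    rw [he] at hj1 ⊢
    interval_cases i <;> norm_num at hj1 <;> norm_num
  rcases hcases with e | e <;> rw [e] at hmod <;> norm_num at hmod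

end Kern

end CfsgLib.M23Nse
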